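import Cfsg.Agent.Lib.Spor.PresCert

/-!
Words tracing back to the start in a coset table.
-/

set_option autoImplicit false

namespace Cfsg.Agent.Spor.CC

variable {G : Type*} [Group G]

/-- every recorded equality holds -/
theorem cover_holds {D : Data} {m : ℕ} (hc : Checked D m) (g : ℕ → G) (H : Subgroup G)
    (hg : ∀ x, g x * g x = 1) (h15 : g 15 = 1)
    (hrel : ∀ k, k < D.nw → wLen (fld D.words 512 k) < 256 ∧
      (k < D.nr → ((wDecode (fld D.words 512 k)).map g).prod = 1) ∧
      ((wDecode (fld D.words 512 k)).map g).prod ∈ H) :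
    ∃ v : ℕ → G, v 0 = 1 ∧ ∀ k, k < m → Holds D g H v k := by
  obtain ⟨v, h0, hv⟩ := exists_val D g hc.defs _ le_rfl
  refine ⟨v, h0, ?_⟩
  suffices hall : ∀ k, k < m → Holds D g H v k from hall
  exact by
    intro k
    induction k using Nat.strong_induction_on with
    | _ k ih =>
      intro hk
      by_cases hkd : k < D.na - 1
      · have hd := hc.defs k hkd
        simp only [defOK, Bool.and_eq_true] at hd
        unfold Holds
        rw [Nat.eq_of_beq_eq_true hd.1.2]
        show Rel H _ (v (k + 1))
        rw [hv k hkd]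
        exact Rel.refl _
      · obtain ⟨s, hs⟩ := hc.steps k (by omega) hk
        simp only [stepOK, stWord] at hs
        generalize hW : Nat.land (Nat.shiftRight s 18) 16383 = wi at hs
        generalize ha : Nat.land s 262143 = a at hs
        simp only [Bool.and_eq_true, Bool.or_eq_true] at hs
        obtain ⟨⟨hw, hor⟩, hgap⟩ := hs
        obtain ⟨hL, hone, hmem⟩ := hrel wi (Nat.le_of_ble_eq_true hw)
        generalize fld D.words 512 wi = w at hgap hL hone hmem
        simp only [gapOK, Bool.and_eq_true] at hgap
        obtain ⟨⟨⟨⟨h1, h2⟩, hu⟩, hv'⟩, hgap⟩ := hgap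
        have hl : ∀ j, j < k → Holds D g H v j := fun j hj => ih j hj (by omega)
        have hne : ∀ r : ℕ, Nat.blt 0 r = true → r ≠ 0 := by
          intro r hr
          have := Nat.le_of_ble_eq_true hr
          omega
        have R1 := walk_sound hg h15 hl false a hL _ _ a 0 _ rfl (hne _ h1) (Nat.zero_le _)
          (by simpa [rd, pre] using Rel.refl (H := H) (v a))
        have R2 := walk_sound hg h15 hl true a hL _ _ a 0 _ rfl (hne _ h2) (Nat.zero_le _)
          (by simpa [rd, suf] using Rel.refl (H := H) (v a))
        generalize walk D.facts w k false _ _ a 0 = r1 at R1 hu hgap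
        generalize walk D.facts w k true _ _ a 0 = r2 at R2 hv' hgap
        simp only [rd] at R1 R2
        have hloop : Rel H (v a * pre g w (wLen w)) (v a) := by
          rw [pre_len]
          rcases hor with hr | hz
          · rw [hone (Nat.le_of_ble_eq_true hr), mul_one]; exact Rel.refl _
          · rw [Nat.eq_of_beq_eq_true hz, h0, one_mul, Rel, inv_one, mul_one]; exact hmem
        unfold Holds
        rw [Nat.eq_of_beq_eq_true hu, Nat.eq_of_beq_eq_true hv']
        generalize fX (D.facts k) = x at hgap
        cases hx : Nat.beq x 15 with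
        | true =>
          simp only [hx, cond_true] at hgap
          rw [Nat.eq_of_beq_eq_true hx, h15, mul_one]
          have := hloop.mul (suf g w (rPos r2))
          rw [← pre_mul_suf g hg w _ (rPos r1) (Nat.eq_of_beq_eq_true hgap), mul_assoc, mul_assoc,
            inv_mul_cancel, mul_one] at this
          exact (R1.symm.trans this).trans R2
        | false =>
          simp only [hx, cond_false, Bool.and_eq_true] at hgap
          obtain ⟨hlen, hxe⟩ := hgap
          rw [Nat.eq_of_beq_eq_true hxe]
          have hlen' : rPos r1 + 1 + rPos r2 = wLen w := by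
            have := Nat.eq_of_beq_eq_true hlen
            simp only [Nat.add_eq] at this
            omega
          have := hloop.mul (suf g w (rPos r2))
          rw [← pre_mul_suf g hg w _ _ hlen', mul_assoc, mul_assoc, inv_mul_cancel, mul_one, pre,
            ← mul_assoc] at this
          exact ((R1.mul _).symm.trans this).trans R2

/-- a word tracing back to the start is trivial -/
theorem walk_trivial {D : Data} {m : ℕ} (hc : Checked D m) (g : ℕ → G) (hg : ∀ x, g x * g x = 1) (h15 : g 15 = 1)
    {ks : List ℕ} {ng : ℕ} {R : List (List ℕ)} {wit : List (ℕ × ℕ × Bool)}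
    (hw : wordsOK D ks ng R wit [] = true) (hks : ∀ x, g x = g (ks.getD x ng))
    (hR : ∀ r ∈ R, (r.map g).prod = 1) {w ids fuel L : ℕ} {l : List ℕ} (hdec : wDecode w = l) (hL : wLen w = L)
    (hL256 : L < 256) (h : Nat.beq (walk D.facts w m false fuel ids 0 0) (L + 1) = true) :
    (l.map g).prod = 1 := by
  simp only [wordsOK, Bool.and_eq_true, List.all_eq_true, List.mem_range, beq_iff_eq] at hw
  obtain ⟨⟨⟨h1, h2⟩, hr⟩, -⟩ := hw
  have h1' := Nat.eq_of_beq_eq_true h1
  have h2' := Nat.eq_of_beq_eq_true h2
  have hone : ∀ k, k < D.nw → ((wDecode (fld D.words 512 k)).map g).prod = 1 := fun k hk => by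
    have e : (wDecode (fld D.words 512 k)).map g = ((wDecode (fld D.words 512 k)).map fun x => ks.getD x ng).map g := by
      rw [List.map_map]
      exact List.map_congr_left fun x _ => hks x
    rw [e, hr k (by simp only [List.length_nil, add_zero] at h2'; omega)]
    exact variant_one g hg hR _
  obtain ⟨v, h0, hall⟩ := cover_holds hc g ⊥ hg h15 fun k hk =>
    ⟨lt_of_le_of_lt Nat.and_le_right (by omega), fun _ => hone k hk, by rw [hone k hk]; exact one_mem _⟩
  have hh := Nat.eq_of_beq_eq_true h
  have R1 := walk_sound hg h15 hall false 0 (hL ▸ hL256) fuel ids 0 0 _ rfl (by rw [hh]; omega) (Nat.zero_le _)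
    (by simpa [rd, pre] using Rel.refl (H := (⊥ : Subgroup G)) (v 0))
  rw [hh, show rPos (L + 1) = L from Nat.mod_eq_of_lt hL256, show rNode (L + 1) = 0 from Nat.div_eq_of_lt hL256,
    h0, one_mul, Rel, inv_one, mul_one, Subgroup.mem_bot] at R1
  rw [← hdec]
  exact (pre_len g w).symm.trans (hL.symm ▸ R1)

end Cfsg.Agent.Spor.CC
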