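import Cfsg.Agent.Lib.Spor.SuzAmal.Inner
import Cfsg.Agent.Lib.Spor.SuzAmal.Walk
import Cfsg.Agent.Lib.Spor.SuzEWalk
import Cfsg.Agent.Lib.Spor.SuzJWalk
import Cfsg.Agent.Lib.Spor.SuzMain

/-!
Groups of Suzuki sporadic type: seven involutions satisfying the relations of the presentation.
-/

set_option autoImplicit false
set_option maxRecDepth 100000
set_option linter.unusedSectionVars false
set_option linter.style.haveILetI false

namespace Cfsg.Agent.Spor.SuzAmal

open Cfsg.Agent.Spor.SuzT
open Cfsg.Agent.Spor.SuzT.Rad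
open Cfsg.Agent.Spor.CC
open Cfsg.Agent.Solv.CITGroups (orderOf_two_iff)

universe u

variable {G : Type u} [Group G] [Finite G] {z : G} {Q : Subgroup G} {C : Rad.Ctx z Q} {L : Cfg C} {Γ : Gam L}
  {S : Setup Γ} {f g c : List ℕ}

/-- relations among the seven involutions -/
structure Rels (a b c d e f g : G) : Prop where
  aa : a * a = 1
  bb : b * b = 1
  cc : c * c = 1
  dd : d * d = 1
  ee : e * e = 1
  ff : f * f = 1
  gg : g * g = 1
  ab : (a * b) ^ 5 = 1
  bc : (b * c) ^ 3 = 1
  cd : (c * d) ^ 8 = 1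
  de : (d * e) ^ 3 = 1
  bf : (b * f) ^ 3 = 1
  fg : (f * g) ^ 4 = 1
  gb : (g * b) ^ 3 = 1
  ac : Commute a c
  ad : Commute a d
  ae : Commute a e
  af : Commute a f
  ag : Commute a g
  bd : Commute b d
  be : Commute b e
  ce : Commute c e
  cf : Commute c f
  cg : Commute c g
  df : Commute d f
  dg : Commute d g
  ef : Commute e f
  eg : Commute e g
  x1 : a = (c * d) ^ 4
  x2 : a = (f * g) ^ 2
  x3 : (a * b * c * f) ^ 5 = 1
  x4 : (b * f * g) ^ 5 = 1
  x5 : ((b * c * d * c * d) ^ 5 * e) ^ 3 = 1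

omit [Finite G] in
theorem inv_pair {x y : G} {n : ℕ} (hx : x * x = 1) (hy : y * y = 1) (h : (x * y) ^ n = 1) : (y * x) ^ n = 1 := by
  rw [show y * x = (x * y)⁻¹ by
    rw [mul_inv_rev, inv_eq_of_mul_eq_one_right hx, inv_eq_of_mul_eq_one_right hy], inv_pow, h, inv_one]

omit [Finite G] in
theorem comm_pair {x y : G} (hx : x * x = 1) (hy : y * y = 1) (h : Commute x y) : (x * y) ^ 2 = 1 := by
  rw [pow_two, h.symm.mul_mul_mul_comm, hx, hy, one_mul]

omit [Finite G] in
/-- the map out of the presented group -/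
theorem exists_hom {a b c d e f g : G} (R : Rels a b c d e f g) :
    ∃ φ : SuzCert.pres.Grp →* G, φ (SuzCert.pres.gen 0) = a ∧ φ (SuzCert.pres.gen 1) = b ∧
      φ (SuzCert.pres.gen 2) = c ∧ φ (SuzCert.pres.gen 3) = d ∧ φ (SuzCert.pres.gen 4) = e ∧
      φ (SuzCert.pres.gen 5) = f ∧ φ (SuzCert.pres.gen 6) = g := by
  let m : Cfsg.Spor.Suz.Gen → G := fun x => match x with
    | .a => a | .b => b | .c => c | .d => d | .e => e | .f => f | .g => g
  have hab := inv_pair R.aa R.bb R.ab
  have hbc := inv_pair R.bb R.cc R.bc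
  have hcd := inv_pair R.cc R.dd R.cd
  have hde := inv_pair R.dd R.ee R.de
  have hbf := inv_pair R.bb R.ff R.bf
  have hfg := inv_pair R.ff R.gg R.fg
  have hgb := inv_pair R.gg R.bb R.gb
  have cox : ∀ x y, (m x * m y) ^ Cfsg.Spor.coxLabel Cfsg.Spor.Suz.edges x y = 1 := by
    intro x y
    cases x <;> cases y <;>
      simp only [Cfsg.Spor.coxLabel, Cfsg.Spor.Suz.edges, reduceIte, reduceCtorEq, List.find?, decide_false,
        decide_true, and_self, and_false, false_and, or_self, or_false, false_or, or_true, true_or, m] <;>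
      first
        | simp only [pow_one, R.aa, R.bb, R.cc, R.dd, R.ee, R.ff, R.gg]; done
        | exact R.ab | exact hab | exact R.bc | exact hbc | exact R.cd | exact hcd | exact R.de | exact hde
        | exact R.bf | exact hbf | exact R.fg | exact hfg | exact R.gb | exact hgb
        | exact comm_pair R.aa R.cc R.ac | exact comm_pair R.cc R.aa R.ac.symm
        | exact comm_pair R.aa R.dd R.ad | exact comm_pair R.dd R.aa R.ad.symm
        | exact comm_pair R.aa R.ee R.ae | exact comm_pair R.ee R.aa R.ae.symm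
        | exact comm_pair R.aa R.ff R.af | exact comm_pair R.ff R.aa R.af.symm
        | exact comm_pair R.aa R.gg R.ag | exact comm_pair R.gg R.aa R.ag.symm
        | exact comm_pair R.bb R.dd R.bd | exact comm_pair R.dd R.bb R.bd.symm
        | exact comm_pair R.bb R.ee R.be | exact comm_pair R.ee R.bb R.be.symm
        | exact comm_pair R.cc R.ee R.ce | exact comm_pair R.ee R.cc R.ce.symm
        | exact comm_pair R.cc R.ff R.cf | exact comm_pair R.ff R.cc R.cf.symm
        | exact comm_pair R.cc R.gg R.cg | exact comm_pair R.gg R.cc R.cg.symm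
        | exact comm_pair R.dd R.ff R.df | exact comm_pair R.ff R.dd R.df.symm
        | exact comm_pair R.dd R.gg R.dg | exact comm_pair R.gg R.dd R.dg.symm
        | exact comm_pair R.ee R.ff R.ef | exact comm_pair R.ff R.ee R.ef.symm
        | exact comm_pair R.ee R.gg R.eg | exact comm_pair R.gg R.ee R.eg.symm
  let φ : SuzCert.pres.Grp →* G := PresentedGroup.toGroup (f := m) (by
    intro r hr
    rcases hr with ⟨x, -, y, -, rfl⟩ | hr
    · rw [map_pow, map_mul, FreeGroup.lift_apply_of, FreeGroup.lift_apply_of]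
      exact cox x y
    · simp only [SuzCert.pres, Cfsg.Spor.Suz.extra, Set.mem_setOf_eq, List.mem_cons, List.not_mem_nil, or_false] at hr
      rcases hr with rfl | rfl | rfl | rfl | rfl <;>
        simp only [map_pow, map_mul, map_inv, FreeGroup.lift_apply_of, m]
      · exact mul_inv_eq_one.2 R.x1
      · exact mul_inv_eq_one.2 R.x2
      · exact R.x3
      · exact R.x4
      · exact R.x5)
  refine ⟨φ, ?_, ?_, ?_, ?_, ?_, ?_, ?_⟩ <;>
    (rw [Pres.gen, if_pos (by decide)]; exact PresentedGroup.toGroup.of _)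

theorem Setup.el_rel {v w : List ℕ} (h : same v w = true) : S.el v = S.el w := S.el_eq.2 h

theorem Setup.el_pair {v w : List ℕ} {n : ℕ} (h : same (pw n (v ++ w)) [] = true) : (S.el v * S.el w) ^ n = 1 := by
  rw [← S.el_append, ← S.el_pw, ← S.el_nil]; exact S.el_rel h

theorem Setup.el_comm {v w : List ℕ} (h : same (v ++ w) (w ++ v) = true) : Commute (S.el v) (S.el w) := by
  rw [Commute, SemiconjBy, ← S.el_append, ← S.el_append]; exact S.el_rel h

theorem Setup.rels_of (F : S.Five f g c) : Rels z (S.el [1]) (S.el c) S.d L.t (S.el f) (S.el g) := by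
  have hr := F.rels
  simp only [relsOK, Bool.and_eq_true, Bool.not_eq_true'] at hr
  obtain ⟨⟨⟨⟨⟨⟨⟨⟨⟨⟨⟨⟨⟨⟨⟨⟨⟨rff, rgg⟩, rcc⟩, rfg⟩, rbf⟩, rbg⟩, rbc⟩, rcf⟩, rcg⟩, raf⟩, rag⟩, rac⟩, rx3⟩, rx4⟩, -⟩, -⟩, rab1⟩, rab⟩ := hr
  have hzz : z * z = 1 := (orderOf_two_iff.1 C.hy.ord).1
  have sq : ∀ {w : List ℕ}, same (w ++ w) [] = true → S.el w * S.el w = 1 := fun {w} h => by
    rw [← S.el_append, ← S.el_nil]; exact S.el_rel h
  have hfg2 : (S.el f * S.el g) ^ 2 = z := by
    have h := S.el_rel rfg
    rw [S.el_pw, S.el_append, S.el_a] at h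
    exact h
  obtain ⟨hfM, hfz, hfX⟩ := S.mem_K.1 F.fK
  obtain ⟨hgM, hgz, hgX⟩ := S.mem_K.1 F.gK
  have hcz : Commute (S.el c) z := S.comm_el rac
  have hdd := S.refl.1
  have hdi : S.d⁻¹ = S.d := inv_eq_of_mul_eq_one_right hdd
  -- the product with the reflection
  set c' := S.d * S.el c * S.d⁻¹ with hc'
  have hc'Q : c' ∈ Q := C.hy.norm _ S.dz _ F.cQ
  have hpol : pol (C.F.vec (S.el c)) (C.F.vec c') = 1 := by
    rw [hc', vec_pi S.dz F.cQ]; exact F.cd
  have hcc' : S.el c * c' = c' * S.el c * z := by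
    have h := comm_pow C.F C.hy F.cQ hc'Q
    rwa [hpol, ZMod.val_one, pow_one] at h
  have hc'2 : c' * c' = 1 := by
    rw [hc', conj_mul, sq rcc]; group
  have hcd2 : (S.el c * S.d) ^ 2 = S.el c * c' := by
    rw [hc', hdi, pow_two]; group
  have hcd4 : (S.el c * S.d) ^ 4 = z := by
    rw [show (4 : ℕ) = 2 * 2 from rfl, pow_mul, hcd2, pow_two]
    calc S.el c * c' * (S.el c * c') = c' * S.el c * z * (S.el c * c') := by rw [← hcc']
      _ = c' * (S.el c * (z * (S.el c * c'))) := by group
      _ = c' * (S.el c * S.el c) * z * c' := by rw [← mul_assoc z, ← hcz.eq]; group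
      _ = c' * c' * z := by rw [sq rcc, mul_one, mul_assoc c' z, ← (Qz C.hy hc'Q).eq, ← mul_assoc]
      _ = z := by rw [hc'2, one_mul]
  have hcd8 : (S.el c * S.d) ^ 8 = 1 := by
    rw [show (8 : ℕ) = 4 * 2 from rfl, pow_mul, hcd4, pow_two, hzz]
  obtain ⟨hbt, -, hbg⟩ := Γ.mem_M.1 (S.el_M [1])
  obtain ⟨hct, -, hcg⟩ := Γ.mem_M.1 (S.el_M c)
  have hgbt : ∀ {w : List ℕ}, Commute (S.el w) L.t := fun {w} => (Γ.mem_M.1 (S.el_M w)).1
  have hbd : Commute (S.el [1]) S.d := (S.five_b S.d_five).symm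
  have hab : (z * S.el [1]) ^ 5 = 1 := by
    have h := S.el_pair (v := [0]) (w := [1]) rab
    rwa [S.el_a] at h
  have hbc3 : (S.el [1] * S.el c) ^ 3 = 1 := S.el_pair rbc
  have hde : (S.d * L.t) ^ 3 = 1 := S.refl.2.2
  -- the last relator
  set u := S.el [1] * S.el c * S.d * S.el c * S.d with hu
  have hug : Commute u Γ.g := by
    have hd1 : S.d * Γ.g = Γ.g⁻¹ * S.d := by rw [← S.refl.2.1, mul_assoc (S.d * Γ.g), hdd, mul_one]
    have hd2 : S.d * Γ.g⁻¹ = Γ.g * S.d := by
      rw [← S.refl.2.1, ← mul_assoc, ← mul_assoc, hdd, one_mul]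
    show u * Γ.g = Γ.g * u
    calc u * Γ.g = S.el [1] * S.el c * S.d * S.el c * (S.d * Γ.g) := by rw [hu]; group
      _ = S.el [1] * S.el c * S.d * (S.el c * Γ.g⁻¹) * S.d := by rw [hd1]; group
      _ = S.el [1] * S.el c * (S.d * Γ.g⁻¹) * S.el c * S.d := by rw [hcg.inv_right.eq]; group
      _ = S.el [1] * (S.el c * Γ.g) * S.d * S.el c * S.d := by rw [hd2]; group
      _ = S.el [1] * Γ.g * S.el c * S.d * S.el c * S.d := by rw [hcg.eq]; group
      _ = Γ.g * u := by rw [hbg.eq, hu]; group
  let h : ℕ → G := fun x => [z, S.el [1], S.el c, S.d, L.t].getD x 1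
  have hh : ∀ x, h x * h x = 1 := fun x => by
    rcases x with _ | _ | _ | _ | _ | x
    exacts [hzz, sq (w := [1]) (by decide +kernel), sq rcc, hdd, L.sq, one_mul 1]
  let k : ℕ → G := fun x => [z, S.el [1], S.el c, S.d].getD x 1
  have hk : ∀ x, k x * k x = 1 := fun x => by
    rcases x with _ | _ | _ | _ | x
    exacts [hzz, sq (w := [1]) (by decide +kernel), sq rcc, hdd, one_mul 1]
  have hprod : ∀ (m : ℕ → G) (n : ℕ) (l : List ℕ), ((CC.powW n l).map m).prod = (l.map m).prod ^ n := fun m n l =>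
    prod_powW m n l
  have hac : (z * S.el c) ^ 2 = 1 := comm_pair hzz (sq rcc) hcz.symm
  have had : (z * S.d) ^ 2 = 1 := comm_pair hzz hdd S.dz.symm
  have hbd2 : (S.el [1] * S.d) ^ 2 = 1 := comm_pair (sq (w := [1]) (by decide +kernel)) hdd hbd
  have hx1 : z * S.d * S.el c * S.d * S.el c * S.d * S.el c * S.d * S.el c = 1 := by
    have h4 := inv_pair (sq rcc) hdd hcd8
    rw [show z * S.d * S.el c * S.d * S.el c * S.d * S.el c * S.d * S.el c = z * (S.d * S.el c) ^ 4 by
      simp only [pow_succ, pow_zero, one_mul, mul_assoc]]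
    rw [show S.d * S.el c = (S.el c * S.d)⁻¹ by
      rw [mul_inv_rev, hdi, inv_eq_of_mul_eq_one_right (sq rcc)], inv_pow, hcd4, mul_inv_cancel]
  have hE : ∀ r ∈ SuzECert.relW, (r.map k).prod = 1 := by
    intro r hr
    simp only [SuzECert.relW, List.mem_cons, List.not_mem_nil, or_false] at hr
    rcases hr with rfl | rfl | rfl | rfl | rfl | rfl | rfl | rfl | rfl | rfl | rfl <;>
      simp only [k, List.map_cons, List.map_nil, List.prod_cons, List.prod_nil, mul_one,
        List.getD_cons_zero, List.getD_cons_succ, mul_assoc]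
    · exact hzz
    · exact sq (w := [1]) (by decide +kernel)
    · exact sq rcc
    · exact hdd
    · simpa only [pow_succ, pow_zero, one_mul, mul_assoc] using hab
    · simpa only [pow_succ, pow_zero, one_mul, mul_assoc] using hac
    · simpa only [pow_succ, pow_zero, one_mul, mul_assoc] using hbc3
    · simpa only [pow_succ, pow_zero, one_mul, mul_assoc] using had
    · simpa only [pow_succ, pow_zero, one_mul, mul_assoc] using hbd2
    · simpa only [pow_succ, pow_zero, one_mul, mul_assoc] using hcd8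
    · simpa only [mul_assoc] using hx1
  have hks : ∀ x, k x = k (SuzECert.One.letters.getD x 4) := fun x => by
    rcases x with _ | _ | _ | _ | x <;> rfl
  have w15 := walk_trivial SuzECert.One.checked k hk rfl SuzECert.One.words_ok hks hE SuzECert.One.decU15
    (L := 75) (by decide +kernel) (by norm_num) SuzECert.One.walkU15
  have wcm := walk_trivial SuzECert.One.checked k hk rfl SuzECert.One.words_ok hks hE SuzECert.One.decUComm
    (L := 54) (by decide +kernel) (by norm_num) SuzECert.One.walkUComm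
  have hu15 : u ^ 15 = 1 := by
    rw [← w15]
    simp only [k, hu, List.map_cons, List.map_nil, List.prod_cons, List.prod_nil, mul_one, List.getD_cons_zero,
      List.getD_cons_succ, pow_succ, pow_zero, one_mul, mul_assoc]
  have hcomm : u ^ 5 * S.x * (u ^ 5)⁻¹ * S.x⁻¹ = 1 := by
    rw [← wcm]
    have hui : u⁻¹ = S.d * S.el c * S.d * S.el c * S.el [1] := by
      rw [hu]
      simp only [mul_inv_rev, hdi, inv_eq_of_mul_eq_one_right (sq rcc),
        inv_eq_of_mul_eq_one_right (sq (w := [1]) (by decide +kernel)), mul_assoc]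
    rw [← inv_pow, hui, show S.x = z * S.el [1] from (S.el_cons 0 [1]).trans (by rw [S.el_a]), mul_inv_rev,
      inv_eq_of_mul_eq_one_right hzz, inv_eq_of_mul_eq_one_right (sq (w := [1]) (by decide +kernel))]
    simp only [k, hu, List.map_cons, List.map_nil, List.prod_cons, List.prod_nil, mul_one, List.getD_cons_zero,
      List.getD_cons_succ, pow_succ, pow_zero, one_mul, mul_assoc]
  have hu5 : u ^ 5 ∈ five S.x := five_mem
    (mul_inv_eq_iff_eq_mul.1 (mul_inv_eq_one.1 hcomm))
    (by rw [← pow_mul, show 5 * 6 = 15 * 2 from rfl, pow_mul, hu15, one_pow])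
  have hne : u ^ 5 ≠ 1 := by
    intro e5
    have hJ : ∀ r ∈ SuzJCert.relW, (r.map h).prod = 1 := by
      intro r hr
      simp only [SuzJCert.relW, List.mem_cons, List.not_mem_nil, or_false] at hr
      have hae : (z * L.t) ^ 2 = 1 := comm_pair hzz L.sq L.tz.symm
      have hbe : (S.el [1] * L.t) ^ 2 = 1 := comm_pair (sq (w := [1]) (by decide +kernel)) L.sq hbt
      have hce : (S.el c * L.t) ^ 2 = 1 := comm_pair (sq rcc) L.sq hct
      rcases hr with rfl | rfl | rfl | rfl | rfl | rfl | rfl | rfl | rfl | rfl | rfl | rfl | rfl | rfl | rfl | rfl | rfl <;>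
        simp only [h, List.map_cons, List.map_nil, List.prod_cons, List.prod_nil, mul_one,
          List.getD_cons_zero, List.getD_cons_succ, mul_assoc]
      · exact hzz
      · exact sq (w := [1]) (by decide +kernel)
      · exact sq rcc
      · exact hdd
      · exact L.sq
      · simpa only [pow_succ, pow_zero, one_mul, mul_assoc] using hab
      · simpa only [pow_succ, pow_zero, one_mul, mul_assoc] using hac
      · simpa only [pow_succ, pow_zero, one_mul, mul_assoc] using hbc3
      · simpa only [pow_succ, pow_zero, one_mul, mul_assoc] using had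
      · simpa only [pow_succ, pow_zero, one_mul, mul_assoc] using hbd2
      · simpa only [pow_succ, pow_zero, one_mul, mul_assoc] using hcd8
      · simpa only [pow_succ, pow_zero, one_mul, mul_assoc] using hae
      · simpa only [pow_succ, pow_zero, one_mul, mul_assoc] using hbe
      · simpa only [pow_succ, pow_zero, one_mul, mul_assoc] using hce
      · simpa only [pow_succ, pow_zero, one_mul, mul_assoc] using hde
      · simpa only [mul_assoc] using hx1
      · simpa only [hu, pow_succ, pow_zero, one_mul, mul_assoc] using e5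
    have wab := walk_trivial SuzJCert.One.checked h hh rfl SuzJCert.One.words_ok
      (fun x => by rcases x with _ | _ | _ | _ | _ | x <;> rfl) hJ SuzJCert.One.decAB
      (L := 2) (by decide +kernel) (by norm_num) SuzJCert.One.walkAB
    simp only [h, List.map_cons, List.map_nil, List.prod_cons, List.prod_nil, mul_one, List.getD_cons_zero,
      List.getD_cons_succ] at wab
    refine S.el_ne rab1 ?_
    rw [S.el_cons, S.el_a, S.el_nil]
    exact wab
  have hx5 : (u ^ 5 * L.t) ^ 3 = 1 := by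
    obtain ⟨i, hi⟩ := S.elt.cent_g hu5 (hug.pow_left 5)
    have hgt : (Γ.g * L.t) ^ 3 = 1 := by
      have e : Γ.g * L.t * (Γ.g * L.t) * (Γ.g * L.t) =
          Γ.g * L.t * Γ.g⁻¹ * (Γ.g * (Γ.g * L.t * Γ.g⁻¹) * Γ.g⁻¹) * (Γ.g ^ 3 * L.t) := by rw [pow_three]; group
      rw [pow_three', e, Γ.cyc.1, Γ.cyc.2, Γ.g3, one_mul,
        show L.v * (L.t * L.v) * L.t = L.v * L.t * (L.v * L.t) by group, ← pow_two]
      exact comm_pair L.v_sq L.sq L.v_t
    rcases (show (Γ.g ^ i : G) = 1 ∨ Γ.g ^ i = Γ.g ∨ Γ.g ^ i = Γ.g⁻¹ by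
      rw [← zpow_mod_orderOf, Γ.ord]
      have h1 := Int.emod_nonneg i (show (3 : ℤ) ≠ 0 by norm_num)
      have h2 := Int.emod_lt_of_pos i (show (0 : ℤ) < 3 by norm_num)
      rcases (show i % (3 : ℤ) = 0 ∨ i % (3 : ℤ) = 1 ∨ i % (3 : ℤ) = 2 by omega) with e | e | e <;>
        simp only [Nat.cast_ofNat, e]
      · exact Or.inl (zpow_zero _)
      · exact Or.inr (Or.inl (zpow_one _))
      · refine Or.inr (Or.inr (eq_inv_of_mul_eq_one_left ?_))
        rw [← zpow_add_one]
        exact (zpow_natCast Γ.g 3).trans Γ.g3) with e | e | e <;> rw [← hi]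
    · exact absurd (hi.symm.trans e) hne
    · show (Γ.g ^ i * L.t) ^ 3 = 1
      rw [e]; exact hgt
    · show (Γ.g ^ i * L.t) ^ 3 = 1
      have h2 : (Γ.g⁻¹ * L.t) ^ 3 = L.t⁻¹ * ((Γ.g * L.t) ^ 3)⁻¹ * L.t := by
        have ht' : L.t⁻¹ = L.t := inv_eq_of_mul_eq_one_right L.sq
        simp only [pow_three, mul_inv_rev, ht', mul_assoc]
        simp only [← mul_assoc, L.sq, one_mul]
      rw [e, h2, hgt, inv_one, mul_one, inv_mul_cancel]
  refine
    { aa := hzz
      bb := sq (w := [1]) (by decide +kernel)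
      cc := sq rcc
      dd := hdd
      ee := L.sq
      ff := sq rff
      gg := sq rgg
      ab := hab
      bc := hbc3
      cd := hcd8
      de := hde
      bf := S.el_pair rbf
      fg := by rw [show (4 : ℕ) = 2 * 2 from rfl, pow_mul, hfg2, pow_two, hzz]
      gb := inv_pair (sq (w := [1]) (by decide +kernel)) (sq rgg) (S.el_pair rbg)
      ac := hcz.symm
      ad := S.dz.symm
      ae := L.tz.symm
      af := hfz.symm
      ag := hgz.symm
      bd := hbd
      be := hbt
      ce := hct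
      cf := S.el_comm rcf
      cg := S.el_comm rcg
      df := hfX _ S.d_five
      dg := hgX _ S.d_five
      ef := hgbt.symm
      eg := hgbt.symm
      x1 := hcd4.symm
      x2 := hfg2.symm
      x3 := ?_
      x4 := ?_
      x5 := hx5 }
  · have h := S.el_rel rx3
    rw [S.el_pw, S.el_nil, S.el_append, S.el_append, S.el_cons 0 [1], S.el_a] at h
    exact h
  · rw [← S.el_append, ← S.el_append, ← S.el_pw, ← S.el_nil]
    exact S.el_rel rx4

end Cfsg.Agent.Spor.SuzAmal
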