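import Cfsg.Agent.Lib.Spor.SuzAmal.BigData
import Cfsg.Agent.Lib.Spor.PermBig

/-!
Lower bounds for the centralisers of two of the generators of Suz.
-/

set_option autoImplicit false
set_option maxRecDepth 100000

namespace Cfsg.Agent.Spor.SuzAmal

open Cfsg.Agent.Spor.CC Cfsg.Agent.Spor.SuzCert

theorem eq_one_of_base {p : pres.Grp}
    (h : ∀ O ∈ RepG24.levels, ∀ u : Fin rep.P.n, (u : ℕ) = O.b → rep.hom p u = u) : p = 1 := by
  haveI := order.1
  have hle := chain_fix_le rep.valid pres.gen rep.hom rep.hom_gen RepG24.levels [] RepG24.chain_ok ⊤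
    (fun _ _ _ => trivial) (Subgroup.zpowers p) le_top (fun s hs O hO u hu => by
      obtain ⟨k, rfl⟩ := Subgroup.mem_zpowers_iff.mp hs
      rw [map_zpow]
      exact Equiv.Perm.zpow_apply_eq_self_of_apply_eq_self (h O hO u hu) k)
  rw [Nat.card_congr Subgroup.topEquiv.toEquiv, RepG24.chain_size, order.2.1] at hle
  have hF : Nat.card (Subgroup.zpowers p) = 1 := by
    have h0 : 0 < Nat.card (Subgroup.zpowers p) := Nat.card_pos
    have h1 : Nat.card (Subgroup.zpowers p) ≤ 1 :=
      Nat.le_of_mul_le_mul_left (by rwa [mul_one]) (by norm_num : 0 < 448345497600)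
    omega
  exact Subgroup.eq_bot_iff_forall _ |>.mp (Subgroup.card_eq_one.mp hF) _ (Subgroup.mem_zpowers _)

theorem bases_lt : (RepG24.levels.all fun B => Nat.blt B.b rep.P.n) = true := by decide +kernel

theorem cent_ge {L : List Orb} {x : ℕ} (hx : x < 7) (hok : chainOK rep.P.T rep.P.ng rep.P.n L [] = true)
    (hc : (RepG24.levels.all fun B => L.all fun O => O.ws.all fun w =>
      Nat.beq (ev rep.P.T rep.P.ng (w ++ [x]) B.b) (ev rep.P.T rep.P.ng ([x] ++ w) B.b)) = true)
    (hl : (L.all fun O => lettersOK rep.P.ng O.ws) = true) :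
    chainSize L ≤ Nat.card (Subgroup.centralizer ({pres.gen x} : Set pres.Grp)) := by
  haveI := order.1
  refine chain_le rep.valid pres.gen rep.hom rep.hom_gen L [] hok _ ?_
  rintro s - ⟨O, hO, w, hw, rfl⟩
  have hlw : ∀ y ∈ w, y < rep.P.ng := fun y hy => lettersOK_spec (List.all_eq_true.mp hl O hO) hw hy
  have hx' : x < rep.P.ng := lt_of_lt_of_le hx (by decide +kernel)
  refine Subgroup.mem_centralizer_singleton_iff.2 ?_
  have e1 : (w.map pres.gen).prod * pres.gen x = ((w ++ [x]).map pres.gen).prod := by simp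
  have e2 : pres.gen x * (w.map pres.gen).prod = (([x] ++ w).map pres.gen).prod := by simp
  rw [e1, e2, ← inv_mul_eq_one]
  refine eq_one_of_base fun B hB u hu => ?_
  rw [map_mul, map_inv, Equiv.Perm.mul_apply, Equiv.Perm.inv_eq_iff_eq]
  apply Fin.ext
  rw [ev_eq rep.valid pres.gen rep.hom rep.hom_gen (fun y hy => ?_), ev_eq rep.valid pres.gen rep.hom rep.hom_gen (fun y hy => ?_), hu]
  · exact (Nat.eq_of_beq_eq_true
      (List.all_eq_true.mp (List.all_eq_true.mp (List.all_eq_true.mp hc B hB) O hO) w hw)).symm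
  · rcases List.mem_append.mp hy with h | h
    exacts [hlw y h, by rw [List.mem_singleton.mp h]; exact hx']
  · rcases List.mem_append.mp hy with h | h
    exacts [by rw [List.mem_singleton.mp h]; exact hx', hlw y h]

theorem ca_ge : 3317760 ≤ Nat.card (Subgroup.centralizer ({pres.gen 0} : Set pres.Grp)) :=
  ca_size ▸ cent_ge (by norm_num) ca_ok ca_comm (by decide +kernel)

theorem ce_ge : 161280 ≤ Nat.card (Subgroup.centralizer ({pres.gen 4} : Set pres.Grp)) :=
  ce_size ▸ cent_ge (by norm_num) ce_ok ce_comm (by decide +kernel)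

end Cfsg.Agent.Spor.SuzAmal
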