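import Cfsg.Agent.Lib.Spor.SuzAmal.Pres
import Cfsg.Agent.Lib.Spor.SuzAmal.Big
import Cfsg.Agent.Lib.Spor.SuzR.Ord.Base

/-!
A group of Suzuki sporadic type is the presented Suzuki group.
-/

set_option autoImplicit false
set_option maxRecDepth 100000
set_option linter.unusedSectionVars false
set_option linter.style.haveILetI false

namespace Cfsg.Agent.Spor.SuzAmal

open Cfsg.Agent.Spor.SuzT
open Cfsg.Agent.Spor.SuzT.Rad
open Cfsg.Agent.Spor.CC
open Cfsg.Agent.Solv.CITGroups (orderOf_two_iff)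

universe u

variable {G : Type u} [Group G] [Finite G] {z : G} {Q : Subgroup G}

theorem iso_suz (h : Hyp z Q) : Cfsg.Spor.IsoSuz G := by
  classical
  obtain ⟨C⟩ := exists_ctx h
  obtain ⟨L⟩ := C.exists_cfg
  obtain ⟨Γ⟩ := exists_gam L
  obtain ⟨S⟩ := exists_setup Γ
  obtain ⟨f, g, c, F⟩ := S.exists_fgc
  obtain ⟨φ, p0, -, -, -, p4, -, -⟩ := exists_hom (S.rels_of F)
  obtain ⟨hz2, hz1⟩ := orderOf_two_iff.1 h.ord
  haveI := SuzCert.order.1
  haveI hsimp : IsSimpleGroup SuzCert.pres.Grp := SuzCert.simple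
  have hφ : Function.Injective φ := by
    rw [← MonoidHom.ker_eq_bot_iff]
    refine (IsSimpleGroup.eq_bot_or_eq_top_of_normal φ.ker inferInstance).resolve_right fun e => hz1 ?_
    rw [← p0]
    exact MonoidHom.mem_ker.1 (e ▸ Subgroup.mem_top _)
  set H := φ.range with hH
  haveI hHs : IsSimpleGroup H := (MonoidHom.ofInjective hφ).symm.isSimpleGroup
  have hHcard : Nat.card H = 448345497600 :=
    (Nat.card_congr (MonoidHom.ofInjective hφ).toEquiv).symm.trans SuzCert.order.2.1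
  -- the centralisers lie in the image
  have hcent : ∀ (n : ℕ) (y : G), φ (SuzCert.pres.gen n) = y →
      ∀ m, Nat.card (Subgroup.centralizer ({y} : Set G)) = m →
      m ≤ Nat.card (Subgroup.centralizer ({SuzCert.pres.gen n} : Set SuzCert.pres.Grp)) →
      Subgroup.centralizer ({y} : Set G) ≤ H := by
    intro n y hy m hm hge
    set D := (Subgroup.centralizer ({SuzCert.pres.gen n} : Set SuzCert.pres.Grp)).map φ with hD
    have hle : D ≤ Subgroup.centralizer ({y} : Set G) := by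
      rintro _ ⟨a, ha, rfl⟩
      refine Subgroup.mem_centralizer_singleton_iff.2 ?_
      rw [← hy, ← map_mul, ← map_mul, Subgroup.mem_centralizer_singleton_iff.1 ha]
    have he : D = Subgroup.centralizer ({y} : Set G) := Subgroup.eq_of_le_of_card_ge hle (by
      rw [hm, hD, Subgroup.card_map_of_injective hφ]; exact hge)
    rw [← he]
    rintro _ ⟨a, -, rfl⟩
    exact ⟨a, rfl⟩
  have hCz : Subgroup.centralizer ({z} : Set G) ≤ H := hcent 0 z p0 _ (card_Cz h) ca_ge
  have hCt : Subgroup.centralizer ({L.t} : Set G) ≤ H := hcent 4 L.t p4 _ L.card_Ct ce_ge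
  have hzH : z ∈ H := ⟨_, p0⟩
  have htH : L.t ∈ H := ⟨_, p4⟩
  -- involutions of the image move into the centraliser of the involution
  have hinto : ∀ u ∈ H, u * u = 1 → ∃ a ∈ H, Commute (a * u * a⁻¹) z := by
    intro u hu huu
    haveI : Fact (Nat.Prime 2) := ⟨Nat.prime_two⟩
    set Cz := Subgroup.centralizer ({z} : Set G) with hCzdef
    set K := Cz.subgroupOf H with hK
    have hKi : K.index = 135135 := by
      have h1 := K.card_mul_index
      rw [hHcard, show Nat.card K = 3317760 from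
        (Nat.card_congr (Subgroup.subgroupOfEquivOfLe hCz).toEquiv).trans (card_Cz h)] at h1
      omega
    have hP : IsPGroup 2 (Subgroup.zpowers (⟨u, hu⟩ : H)) := by
      intro a
      refine ⟨1, ?_⟩
      obtain ⟨i, hi⟩ := a.2
      apply Subtype.ext
      show (a : H) ^ (2 ^ 1) = 1
      rw [← hi, pow_one]
      show ((⟨u, hu⟩ : H) ^ i) ^ 2 = 1
      rw [← zpow_natCast, ← zpow_mul, mul_comm, zpow_mul, zpow_natCast,
        show (⟨u, hu⟩ : H) ^ 2 = 1 from Subtype.ext (by show u ^ 2 = 1; rw [pow_two, huu]), one_zpow]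
    obtain ⟨q, hq⟩ := hP.nonempty_fixed_point_of_prime_not_dvd_card (H ⧸ K)
      (by rw [← Subgroup.index, hKi]; norm_num)
    induction q using QuotientGroup.induction_on with
    | H a =>
      have e : (((⟨u, hu⟩ : H) * a : H) : H ⧸ K) = (a : H ⧸ K) := hq ⟨⟨u, hu⟩, Subgroup.mem_zpowers _⟩
      rw [eq_comm, QuotientGroup.eq, hK, Subgroup.mem_subgroupOf] at e
      refine ⟨(a : G)⁻¹, inv_mem a.2, ?_⟩
      rw [inv_inv, mul_assoc]
      exact Subgroup.mem_centralizer_singleton_iff.1 e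
  have hT : ∀ u ∈ H, IsConj L.t u → ∃ a ∈ H, a * L.t * a⁻¹ = u := by
    intro u hu hT
    obtain ⟨a, ha, hac⟩ := hinto u hu (L.T_sq hT).1
    obtain ⟨b, hb, e⟩ := L.T_trans_C hac (hT.trans (isConj_iff.2 ⟨a, rfl⟩))
    refine ⟨a⁻¹ * b, mul_mem (inv_mem ha) (hCz (Subgroup.mem_centralizer_singleton_iff.2 hb)), ?_⟩
    rw [show a⁻¹ * b * L.t * (a⁻¹ * b)⁻¹ = a⁻¹ * (b * L.t * b⁻¹) * a by group, e]
    group
  have hDH : ∀ y : G, IsConj z y → y ∈ H := by
    intro y hy
    obtain ⟨hyy, hy1⟩ := D_sq h hy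
    set n := orderOf (y * L.t) with hn
    have heven : Even n := by
      by_contra ho
      obtain ⟨k, hk⟩ := Nat.not_even_iff_odd.1 ho
      refine L.not_D (hy.trans ?_)
      have hh := Five.refl_conj (Five.refl_inverts hyy L.sq) 0 (k + 1)
      rwa [pow_zero, mul_one, show 0 + 2 * (k + 1) = n + 1 by omega, pow_succ, hn, pow_orderOf_eq_one, one_mul,
        ← mul_assoc, hyy, one_mul] at hh
    obtain ⟨ho, hwy, hwt⟩ := S0209.result y L.t (orderOf_two_iff.2 ⟨hyy, hy1⟩) (orderOf_two_iff.2 ⟨L.sq, L.ne_one⟩) heven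
    obtain ⟨hw2, hw1⟩ := orderOf_two_iff.1 ho
    set w := (y * L.t) ^ (orderOf (y * L.t) / 2) with hw
    have hwH : w ∈ H := hCt (Subgroup.mem_centralizer_singleton_iff.2 hwt)
    have hC : ∃ a ∈ H, ∃ s, (s = z ∨ s = L.t) ∧ a * s * a⁻¹ = w := by
      by_cases hD : IsConj z w
      · obtain ⟨a, ha, e⟩ := L.D_trans hwt hD
        exact ⟨a, hCt ha, z, Or.inl rfl, e⟩
      · obtain ⟨a, ha, e⟩ := hT w hwH ((L.T_iff hw2 hw1).2 hD)
        exact ⟨a, ha, L.t, Or.inr rfl, e⟩
    obtain ⟨a, ha, s, hs, e⟩ := hC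
    have hya : Commute (a⁻¹ * y * a) s := by
      have h2 := (Commute.conj_iff a⁻¹).2 hwy.symm
      rwa [← e, inv_inv, show a⁻¹ * (a * s * a⁻¹) * a = s by group] at h2
    have hmem : a⁻¹ * y * a ∈ H := by
      rcases hs with rfl | rfl
      · exact hCz (Subgroup.mem_centralizer_singleton_iff.2 hya)
      · exact hCt (Subgroup.mem_centralizer_singleton_iff.2 hya)
    have := mul_mem (mul_mem ha hmem) (inv_mem ha)
    rwa [show a * (a⁻¹ * y * a) * a⁻¹ = y by group] at this
  -- the image is normal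
  set N := Subgroup.normalClosure ({z} : Set G) with hN
  have hNH : N ≤ H := by
    refine (Subgroup.closure_le _).2 fun y hy => ?_
    obtain ⟨s, hs, hc⟩ := Group.mem_conjugatesOfSet_iff.1 hy
    rw [Set.mem_singleton_iff.1 hs] at hc
    exact hDH y hc
  have hHN : H ≤ N := by
    rcases IsSimpleGroup.eq_bot_or_eq_top_of_normal (N.subgroupOf H) inferInstance with e | e
    · exfalso
      have : (⟨z, hzH⟩ : H) ∈ N.subgroupOf H := Subgroup.subset_normalClosure (Set.mem_singleton z)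
      rw [e, Subgroup.mem_bot] at this
      exact hz1 (congrArg Subtype.val this)
    · exact Subgroup.subgroupOf_eq_top.1 e
  have htop : H = ⊤ := by
    refine (Subgroup.eq_top_iff' _).2 fun k => ?_
    have hk : k * L.t * k⁻¹ ∈ H := hNH (Subgroup.normalClosure_normal.conj_mem _ (hHN htH) k)
    obtain ⟨a, ha, e⟩ := hT _ hk (isConj_iff.2 ⟨k, rfl⟩)
    have h2 : a⁻¹ * k ∈ H := hCt (Subgroup.mem_centralizer_singleton_iff.2 (mul_inv_eq_iff_eq_mul.1 (by
      rw [show a⁻¹ * k * L.t * (a⁻¹ * k)⁻¹ = a⁻¹ * (k * L.t * k⁻¹) * a by group, ← e]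
      group)))
    have := mul_mem ha h2
    rwa [mul_inv_cancel_left] at this
  exact ⟨((MonoidHom.ofInjective hφ).trans ((MulEquiv.subgroupCongr htop).trans Subgroup.topEquiv)).symm⟩

end Cfsg.Agent.Spor.SuzAmal
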