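import Cfsg.Agent.Lib.Spor.SuzAmal.Model
import Cfsg.Agent.Lib.Solv.CIT.Main

/-!
The five generators generate a group isomorphic to the linear group of dimension three over the field with
four elements.
-/

set_option autoImplicit false
set_option maxRecDepth 100000
set_option linter.style.haveILetI false

open scoped LinearAlgebra.Projectivization

namespace Cfsg.Agent.Spor.SuzAmal

open Cfsg.Agent.Spor.PlaneAut Cfsg.Agent.Spor.PlaneFour

/-- the group generated by the five permutations -/
def PG : Subgroup (Equiv.Perm (Fin 21)) := Subgroup.closure (gen '' Set.Iio 5)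

theorem wp_mem {w : List ℕ} (h : ∀ x ∈ w, x < 5) : wp w ∈ PG := by
  refine list_prod_mem fun y hy => ?_
  obtain ⟨x, hx, rfl⟩ := List.mem_map.mp hy
  exact Subgroup.subset_closure ⟨x, h x hx, rfl⟩

theorem gen_mem (k : ℕ) : gen k ∈ PG := by
  by_cases h : k < 5
  · exact Subgroup.subset_closure ⟨k, h, rfl⟩
  · rw [show gen k = 1 from Equiv.ext fun i => img_big h i]; exact one_mem _

theorem wp_mem' (w : List ℕ) : wp w ∈ PG := by
  refine list_prod_mem fun y hy => ?_
  obtain ⟨x, hx, rfl⟩ := List.mem_map.mp hy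
  exact gen_mem x

/-- the points -/
def pe : Fin 21 ≃ P21 := ⟨point, code, code_point, point_code⟩

theorem wp_cons (k : ℕ) (w : List ℕ) : wp (k :: w) = gen k * wp w := by rw [wp, List.map_cons, List.prod_cons]; rfl

theorem wp_nil : wp [] = 1 := rfl

theorem rels : gen 0 = (gen 3 * gen 4) ^ 2 ∧ (gen 0 * gen 1) ^ 5 = 1 ∧ (gen 1 * gen 2) ^ 3 = 1 ∧
    (gen 1 * gen 3) ^ 3 = 1 ∧ (gen 1 * gen 4) ^ 3 = 1 ∧ gen 2 * gen 3 = gen 3 * gen 2 ∧
    (gen 0 * gen 1 * gen 2 * gen 3) ^ 5 = 1 ∧ (gen 1 * gen 3 * gen 4) ^ 5 = 1 ∧ ∀ k, gen k * gen k = 1 := by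
  have e : ∀ {v w : List ℕ}, same v w = true → wp v = wp w := same_spec.mp
  refine ⟨?_, ?_, ?_, ?_, ?_, ?_, ?_, ?_, fun k => ?_⟩
  · have h := e (v := [0]) (w := pw 2 [3, 4]) (by decide +kernel)
    simp only [wp_pw, wp_cons, wp_nil, mul_one, mul_assoc] at h ⊢
    exact h
  · have h := e (v := pw 5 [0, 1]) (w := []) (by decide +kernel)
    simp only [wp_pw, wp_cons, wp_nil, mul_one, mul_assoc] at h ⊢
    exact h
  · have h := e (v := pw 3 [1, 2]) (w := []) (by decide +kernel)
    simp only [wp_pw, wp_cons, wp_nil, mul_one, mul_assoc] at h ⊢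
    exact h
  · have h := e (v := pw 3 [1, 3]) (w := []) (by decide +kernel)
    simp only [wp_pw, wp_cons, wp_nil, mul_one, mul_assoc] at h ⊢
    exact h
  · have h := e (v := pw 3 [1, 4]) (w := []) (by decide +kernel)
    simp only [wp_pw, wp_cons, wp_nil, mul_one, mul_assoc] at h ⊢
    exact h
  · have h := e (v := [2, 3]) (w := [3, 2]) (by decide +kernel)
    simp only [wp_pw, wp_cons, wp_nil, mul_one, mul_assoc] at h ⊢
    exact h
  · have h := e (v := pw 5 [0, 1, 2, 3]) (w := []) (by decide +kernel)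
    simp only [wp_pw, wp_cons, wp_nil, mul_one, mul_assoc] at h ⊢
    exact h
  · have h := e (v := pw 5 [1, 3, 4]) (w := []) (by decide +kernel)
    simp only [wp_pw, wp_cons, wp_nil, mul_one, mul_assoc] at h ⊢
    exact h
  refine Equiv.ext fun i => ?_
  by_cases h : k < 5
  · exact img_img k h i
  · show img k (img k i) = i
    rw [img_big h, img_big h]

/-- in a group of order at most six these relations force triviality -/
theorem small_trivial {Γ : Type*} [Group Γ] [Finite Γ] (hc : Nat.card Γ ≤ 6) {a b c f g : Γ} (ha : a * a = 1)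
    (hb : b * b = 1) (hcc : c * c = 1) (hf : f * f = 1) (hg : g * g = 1) (r0 : a = (f * g) ^ 2) (r1 : (a * b) ^ 5 = 1)
    (r2 : (b * c) ^ 3 = 1) (r3 : (b * f) ^ 3 = 1) (r4 : c * f = f * c) (r5 : (a * b * c * f) ^ 5 = 1)
    (r6 : (b * f * g) ^ 5 = 1) : a = 1 ∧ b = 1 ∧ c = 1 ∧ f = 1 ∧ g = 1 := by
  -- elements of order dividing five
  have five : ∀ {u : Γ}, u ^ 5 = 1 → u = 1 ∨ ∀ x : Γ, x * x = 1 → x = 1 := fun {u} hu => by
    by_cases h5 : 5 ∣ Nat.card Γ
    · refine Or.inr fun x hx => ?_
      have h : Nat.card Γ = 5 := by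
        obtain ⟨m, hm⟩ := h5
        have := Nat.card_pos (α := Γ)
        omega
      have hx5 : x ^ 5 = 1 := by rw [← h]; exact pow_card_eq_one'
      rw [show (5 : ℕ) = 2 * 2 + 1 from rfl, pow_succ, pow_mul, pow_two x, hx, one_pow, one_mul] at hx5
      exact hx5
    · refine Or.inl (orderOf_eq_one_iff.1 ?_)
      rcases (Nat.dvd_prime (by norm_num : Nat.Prime 5)).1 (orderOf_dvd_of_pow_eq_one hu) with h | h
      · exact h
      · exact absurd (h ▸ orderOf_dvd_natCard u) h5
  have all : (∀ x : Γ, x * x = 1 → x = 1) → a = 1 ∧ b = 1 ∧ c = 1 ∧ f = 1 ∧ g = 1 := fun h =>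
    ⟨h a ha, h b hb, h c hcc, h f hf, h g hg⟩
  rcases five r1 with e1 | h
  swap; · exact all h
  rcases five r5 with e5 | h
  swap; · exact all h
  rcases five r6 with e6 | h
  swap; · exact all h
  have hcf : c = f := by
    rw [e1, one_mul] at e5
    calc c = c * (f * f) := by rw [hf, mul_one]
      _ = c * f * f := by group
      _ = f := by rw [e5, one_mul]
  have hfg : f * g = b := by
    calc f * g = b * b * (f * g) := by rw [hb, one_mul]
      _ = b * (b * f * g) := by group
      _ = b := by rw [e6, mul_one]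
  have hab : a = b := by
    calc a = a * (b * b) := by rw [hb, mul_one]
      _ = a * b * b := by group
      _ = b := by rw [e1, one_mul]
  have ha1 : a = 1 := by rw [r0, hfg, pow_two, hb]
  have hb1 : b = 1 := hab ▸ ha1
  have hf1 : f = 1 := by
    rw [hb1, one_mul, pow_succ, pow_two, hf, one_mul] at r3
    exact r3
  have hg1 : g = 1 := by rw [hf1, one_mul] at hfg; rw [hfg, hb1]
  exact ⟨ha1, hb1, hcf.trans hf1, hf1, hg1⟩

theorem gen_auto (k : ℕ) : pe.permCongr (gen k) ∈ modelAut := by
  refine Code24.mem_setSystemAut fun l hl => ?_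
  by_cases h : k < 5
  · have := gen_lines h (Finset.mem_coe.1 hl)
    exact Finset.mem_coe.2 this
  · rw [show gen k = 1 from Equiv.ext fun i => img_big h i]
    rwa [Equiv.permCongr_def, show (pe.symm.trans (1 : Equiv.Perm (Fin 21))).trans pe = Equiv.refl _ from Equiv.ext fun x => pe.apply_symm_apply x, Equiv.coe_refl, Finset.image_id]

/-- the element of a transversal -/
def rep (l i : ℕ) : List ℕ := (repW.getD l (0, [])).2.getD i []

/-- the transversals do what they should -/
def repOK : Bool :=
  (List.range 21).all (fun i => (List.range 21).all fun j =>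
    Nat.beq i j || !(app (rep 0 i) (repW.getD 0 (0, [])).1 == app (rep 0 j) (repW.getD 0 (0, [])).1)) &&
  (List.range 20).all (fun i => app (rep 1 i) (repW.getD 0 (0, [])).1 == (repW.getD 0 (0, [])).1 &&
    (List.range 20).all fun j =>
      Nat.beq i j || !(app (rep 1 i) (repW.getD 1 (0, [])).1 == app (rep 1 j) (repW.getD 1 (0, [])).1)) &&
  (List.range 16).all (fun i => app (rep 2 i) (repW.getD 0 (0, [])).1 == (repW.getD 0 (0, [])).1 &&
    app (rep 2 i) (repW.getD 1 (0, [])).1 == (repW.getD 1 (0, [])).1 &&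
    (List.range 16).all fun j =>
      Nat.beq i j || !(app (rep 2 i) (repW.getD 2 (0, [])).1 == app (rep 2 j) (repW.getD 2 (0, [])).1))

theorem rep_ok : repOK = true := by decide +kernel

theorem PG_big : 6720 ≤ Nat.card PG := by
  have h := rep_ok
  simp only [repOK, Bool.and_eq_true, List.all_eq_true, List.mem_range, Bool.or_eq_true, Nat.beq_eq,
    Bool.not_eq_true', beq_eq_false_iff_ne, ne_eq, beq_iff_eq] at h
  obtain ⟨⟨h0, h1⟩, h2⟩ := h
  let φ : Fin 21 × Fin 20 × Fin 16 → PG := fun p =>
    ⟨wp (rep 0 p.1) * (wp (rep 1 p.2.1) * wp (rep 2 p.2.2)), mul_mem (wp_mem' _) (mul_mem (wp_mem' _) (wp_mem' _))⟩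
  have hφ : Function.Injective φ := by
    rintro ⟨i, j, k⟩ ⟨i', j', k'⟩ e
    have e' : ∀ x, app (rep 0 i) (app (rep 1 j) (app (rep 2 k) x)) = app (rep 0 i') (app (rep 1 j') (app (rep 2 k') x)) :=
      fun x => by
        simp only [← wp_apply, ← Equiv.Perm.mul_apply]
        exact congrArg (fun g : PG => (g : Equiv.Perm (Fin 21)) x) e
    have ei := e' (repW.getD 0 (0, [])).1
    rw [(h2 k k.2).1.1, (h2 k' k'.2).1.1, (h1 j j.2).1, (h1 j' j'.2).1] at ei
    obtain rfl : i = i' := Fin.ext (((h0 i i.2) i' i'.2).resolve_right (fun hne => hne ei))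
    have inj : ∀ {x y}, app (rep 0 i) x = app (rep 0 i) y → x = y := fun {x y} h => by
      rw [← wp_apply, ← wp_apply] at h; exact (wp (rep 0 i)).injective h
    have ej := inj (e' (repW.getD 1 (0, [])).1)
    rw [(h2 k k.2).1.2, (h2 k' k'.2).1.2] at ej
    obtain rfl : j = j' := Fin.ext (((h1 j j.2).2 j' j'.2).resolve_right (fun hne => hne ej))
    have ek := inj (e' (repW.getD 2 (0, [])).1)
    rw [← wp_apply, ← wp_apply (rep 1 j)] at ek
    obtain rfl : k = k' :=
      Fin.ext (((h2 k k.2).2 k' k'.2).resolve_right (fun hne => hne ((wp (rep 1 j)).injective ek)))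
    rfl
  refine le_trans (le_of_eq ?_) (Nat.card_le_card_of_injective φ hφ)
  simp [Nat.card_eq_fintype_card]

/-- the linear group maps isomorphically onto the model -/
theorem model_equiv (F : Type) [Field F] [Fintype F] (hF : Fintype.card F = 4) :
    Nonempty (PG ≃* Matrix.ProjectiveSpecialLinearGroup (Fin 3) F) := by
  classical
  haveI : Fintype (ℙ F (Fin 3 → F)) := Fintype.ofFinite _
  haveI : IsSimpleGroup (Matrix.ProjectiveSpecialLinearGroup (Fin 3) F) := Cfsg.Agent.Small.PSLn.psl_simple le_rfl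
  obtain ⟨L, hL⟩ : ∃ L : Finset (Finset (ℙ F (Fin 3 → F))), (L : Set (Finset (ℙ F (Fin 3 → F)))) = projLines (F := F) :=
    ⟨(Set.toFinite _).toFinset, Set.Finite.coe_toFinset _⟩
  have hLs : Cfsg.IsSteinerSystem 2 5 (L : Set (Finset (ℙ F (Fin 3 → F)))) := hL ▸ proj_steiner hF
  have hℙ : Fintype.card (ℙ F (Fin 3 → F)) = 21 := by
    rw [← Nat.card_eq_fintype_card,
      Projectivization.card_of_finrank F (Fin 3 → F) (Module.finrank_fin_fun F), Nat.card_eq_fintype_card, hF]
    rfl
  obtain ⟨Ψ, hΨ⟩ := exists_coord hℙ hLs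
  let lin : Matrix.ProjectiveSpecialLinearGroup (Fin 3) F →* Equiv.Perm P21 :=
    Ψ.permCongrHom.toMonoidHom.comp (MulAction.toPermHom _ _)
  have hlin : ∀ g, lin g ∈ modelAut := by
    intro g
    obtain ⟨g, rfl⟩ := QuotientGroup.mk_surjective g
    refine Code24.mem_setSystemAut fun l hl => ?_
    rw [Finset.mem_coe] at hl ⊢
    have e0 : l = (l.image Ψ.symm).image Ψ := by rw [Finset.image_image, Equiv.self_comp_symm, Finset.image_id]
    rw [e0, ← hΨ, ← Finset.mem_coe, hL] at hl
    have h2 := psl_maps g hl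
    rw [← hL, Finset.mem_coe, hΨ, Finset.image_image, Finset.image_image] at h2
    convert h2 using 2
    funext x
    simp [lin, Matrix.ProjectiveSpecialLinearGroup.smul_proj_mk]
  let ψ := lin.codRestrict modelAut hlin
  have hψ : Function.Injective ψ := fun a b h =>
    MulAction.toPerm_injective (Ψ.permCongrHom.injective (congrArg Subtype.val h))
  set R := ψ.range with hR
  have hRc : Nat.card R = 20160 :=
    (Nat.card_congr (MonoidHom.ofInjective hψ).toEquiv).symm.trans (card_psl34 hF)
  haveI hRs : IsSimpleGroup R := (MonoidHom.ofInjective hψ).symm.isSimpleGroup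
  haveI hRn : R.Normal := ⟨fun n hn c => by
    set R' := R.map (MulAut.conj c).toMonoidHom with hR'
    have hinj : Function.Injective (MulAut.conj c).toMonoidHom := (MulAut.conj c).injective
    have hsimp : IsSimpleGroup R' := (R.equivMapOfInjective _ hinj).symm.isSimpleGroup
    have hle := simple_le card_modelAut R R' hsimp hRc.ge (by
      rw [hR', Subgroup.card_map_of_injective hinj, hRc])
    exact hle ⟨n, hn, rfl⟩⟩
  have hidx : R.index ≤ 6 := by
    have h := Subgroup.card_mul_index R
    rw [hRc] at h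
    have := card_modelAut
    omega
  let γ : ℕ → modelAut := fun k => ⟨pe.permCongr (gen k), gen_auto k⟩
  let q := QuotientGroup.mk' R
  let pc : Equiv.Perm (Fin 21) →* Equiv.Perm P21 := pe.permCongrHom.toMonoidHom
  have lift : ∀ {x y : modelAut}, (x : Equiv.Perm P21) = y → q x = q y := fun h => congrArg q (Subtype.ext h)
  obtain ⟨r0, r1, r2, r3, -, r4, r5, r6, rs⟩ := rels
  have hsq : ∀ k, q (γ k) * q (γ k) = 1 := fun k => by
    rw [← map_mul, ← map_one q]
    exact lift ((map_mul pc _ _).symm.trans ((congrArg pc (rs k)).trans (map_one pc)))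
  obtain ⟨e0, e1, e2, e3, e4⟩ := small_trivial (Γ := modelAut ⧸ R) hidx (hsq 0) (hsq 1) (hsq 2) (hsq 3) (hsq 4)
    (by rw [← map_mul, ← map_pow]; exact lift ((congrArg pc r0).trans (by rw [map_pow, map_mul]; rfl)))
    (by rw [← map_mul, ← map_pow, ← map_one q]; exact lift (by
      have := congrArg pc r1; rw [map_pow, map_mul, map_one] at this; exact this))
    (by rw [← map_mul, ← map_pow, ← map_one q]; exact lift (by
      have := congrArg pc r2; rw [map_pow, map_mul, map_one] at this; exact this))
    (by rw [← map_mul, ← map_pow, ← map_one q]; exact lift (by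
      have := congrArg pc r3; rw [map_pow, map_mul, map_one] at this; exact this))
    (by rw [← map_mul, ← map_mul]; exact lift (by
      have := congrArg pc r4; rw [map_mul, map_mul] at this; exact this))
    (by rw [← map_mul, ← map_mul, ← map_mul, ← map_pow, ← map_one q]; exact lift (by
      have := congrArg pc r5; rw [map_pow, map_mul, map_mul, map_mul, map_one] at this; exact this))
    (by rw [← map_mul, ← map_mul, ← map_pow, ← map_one q]; exact lift (by
      have := congrArg pc r6; rw [map_pow, map_mul, map_mul, map_one] at this; exact this))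
  have hgenR : ∀ k, k < 5 → γ k ∈ R := by
    intro k hk
    refine (QuotientGroup.eq_one_iff _).1 ?_
    interval_cases k <;> assumption
  let emb : PG →* modelAut := (pc.comp PG.subtype).codRestrict modelAut fun p => by
    have : PG ≤ modelAut.comap pc := (Subgroup.closure_le _).2 (by
      rintro _ ⟨k, -, rfl⟩; exact gen_auto k)
    exact this p.2
  have hemb : Function.Injective emb := fun a b h =>
    Subtype.ext (pe.permCongrHom.injective (congrArg Subtype.val h))
  have hle : emb.range ≤ R := by
    rintro _ ⟨p, rfl⟩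
    have key : PG ≤ (R.map modelAut.subtype).comap pc := (Subgroup.closure_le _).2 (by
      rintro _ ⟨k, hk, rfl⟩; exact ⟨γ k, hgenR k hk, rfl⟩)
    obtain ⟨x, hx, e⟩ := key p.2
    rwa [show emb p = x from Subtype.ext e.symm]
  -- the model is large
  have heq : emb.range = R := by
    by_contra hne
    have hlt : emb.range.subgroupOf R ≠ ⊤ := fun h => hne (le_antisymm hle (Subgroup.subgroupOf_eq_top.1 h))
    have hcore : (emb.range.subgroupOf R).normalCore = ⊥ := by
      haveI := (emb.range.subgroupOf R).normalCore_normal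
      rcases IsSimpleGroup.eq_bot_or_eq_top_of_normal (emb.range.subgroupOf R).normalCore inferInstance with h | h
      · exact h
      · exact absurd (eq_top_iff.2 (h ▸ (emb.range.subgroupOf R).normalCore_le)) hlt
    have hinj : Function.Injective (MulAction.toPermHom R (R ⧸ emb.range.subgroupOf R)) := by
      rw [← MonoidHom.ker_eq_bot_iff, ← Subgroup.normalCore_eq_ker, hcore]
    have hle' := Nat.card_le_card_of_injective _ hinj
    rw [Nat.card_perm, ← Subgroup.index, hRc] at hle'
    have h2 := (emb.range.subgroupOf R).card_mul_index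
    rw [hRc, Nat.card_congr (Subgroup.subgroupOfEquivOfLe hle).toEquiv,
      ← Nat.card_congr (MonoidHom.ofInjective hemb).toEquiv] at h2
    have h6720 := PG_big
    have h7 : (emb.range.subgroupOf R).index ≤ 3 := by
      by_contra hc
      have : Nat.card PG * 4 ≤ 20160 := (Nat.mul_le_mul_left _ (show 4 ≤ _ by omega)).trans_eq h2
      omega
    have := Nat.factorial_le h7
    have : Nat.factorial 3 = 6 := rfl
    omega
  exact ⟨(MonoidHom.ofInjective hemb).trans ((MulEquiv.subgroupCongr heq).trans (MonoidHom.ofInjective hψ).symm)⟩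

end Cfsg.Agent.Spor.SuzAmal
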