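import Cfsg.Agent.Lib.Spor.SuzR.Five.FiveTop
import Cfsg.Agent.Lib.Spor.SuzAmal.Plane

/-!
Groups of Suzuki sporadic type: the complement of the four-group in its centraliser fixed by the element of
order three, and its image in the extraspecial subgroup.
-/

set_option autoImplicit false
set_option maxRecDepth 100000
set_option linter.unusedSectionVars false
set_option linter.style.haveILetI false

namespace Cfsg.Agent.Spor.SuzAmal

open Cfsg.Agent.Spor.SuzT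
open Cfsg.Agent.Spor.SuzT.Rad
open Cfsg.Agent.Spor.SuzT.Chk Cfsg.Agent.Spor.SuzT.Dat
open Cfsg.Agent.Solv.CITGroups (orderOf_two_iff)

universe u

variable {G : Type u} [Group G] [Finite G] {z : G} {Q : Subgroup G}

/-- a cycling element of order three centralising the central involution -/
structure Gam {C : Rad.Ctx z Q} (L : Cfg C) where
  /-- the element -/
  g : G
  cyc : L.Cyc g
  gz : Commute g z
  g3 : g ^ 3 = 1

variable {C : Rad.Ctx z Q} {L : Cfg C}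

theorem exists_gam (L : Cfg C) : Nonempty (Gam L) := by
  obtain ⟨g, h1, h2, h3⟩ := L.exists_gam
  exact ⟨⟨g, h1, h2, h3⟩⟩

variable (Γ : Gam L)

/-- the complement -/
noncomputable def Gam.M : Subgroup G := L.Hv ⊓ Subgroup.centralizer ({Γ.g} : Set G)

theorem Gam.mem_M {a : G} : a ∈ Γ.M ↔ Commute a L.t ∧ Commute a L.v ∧ Commute a Γ.g := by
  rw [Gam.M, Subgroup.mem_inf, L.mem_Hv, Subgroup.mem_centralizer_singleton_iff]
  exact ⟨fun h => ⟨h.1.1, h.1.2, h.2⟩, fun h => ⟨⟨h.1, h.2.1⟩, h.2.2⟩⟩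

theorem Gam.M_Hv : Γ.M ≤ L.Hv := inf_le_left

theorem Gam.V_fix {w : G} (hw : w ∈ L.V) (h : Γ.g * w * Γ.g⁻¹ = w) : w = 1 := by
  rcases hw with e | e | e | e
  · exact e
  · rw [e, Γ.cyc.1] at h; exact absurd h.symm L.t_ne_v
  · rw [e, Γ.cyc.2] at h; exact absurd h L.t_v_ne
  · rw [e, Γ.cyc.tv] at h; exact absurd (mul_eq_left.1 h.symm) (Cfg.v_ne_one (L := L))

theorem Gam.split {a : G} (ha : a ∈ L.Hv) : ∃ w ∈ L.V, a * w ∈ Γ.M := by
  have key : ∀ w ∈ L.V, a⁻¹ * (Γ.g * a * Γ.g⁻¹) * (Γ.g * w * Γ.g⁻¹) = w → a * w ∈ Γ.M := fun w hw e =>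
    ⟨mul_mem ha (L.S₀_le_Hv (L.V_le hw)), Subgroup.mem_centralizer_singleton_iff.2 (Eq.symm
      (mul_inv_eq_iff_eq_mul.1 (by
        calc Γ.g * (a * w) * Γ.g⁻¹ = a * (a⁻¹ * (Γ.g * a * Γ.g⁻¹) * (Γ.g * w * Γ.g⁻¹)) := by group
          _ = a * w := by rw [e])))⟩
  have htv : L.t * (L.t * L.v) = L.v := by rw [← mul_assoc, L.sq, one_mul]
  rcases L.cube_trivial Γ.cyc.nv Γ.gz Γ.g3 ha with e | e | e | e
  · exact ⟨1, one_mem _, key 1 (one_mem _) (by rw [e]; group)⟩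
  · exact ⟨L.v, L.v_V, key _ L.v_V (by rw [e, Γ.cyc.2, htv])⟩
  · refine ⟨L.t * L.v, mul_mem L.t_V L.v_V, key _ (mul_mem L.t_V L.v_V) ?_⟩
    rw [e, Γ.cyc.tv]
    exact L.v_t.eq
  · refine ⟨L.t, L.t_V, key _ L.t_V ?_⟩
    rw [e, Γ.cyc.1, mul_assoc, L.v_sq, mul_one]

/-- the projection to the quotient -/
noncomputable def Gam.toQ : Γ.M →* L.MQ :=
  (QuotientGroup.mk' L.VH).comp (Subgroup.inclusion Γ.M_Hv)

theorem Gam.toQ_bij : Function.Bijective Γ.toQ := by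
  constructor
  · refine (MonoidHom.ker_eq_bot_iff _).1 ((Subgroup.eq_bot_iff_forall _).2 fun a ha => Subtype.ext ?_)
    refine Γ.V_fix ((L.bar_one_iff (Γ.M_Hv a.2)).1 ha) ?_
    rw [((Γ.mem_M.1 a.2).2.2).symm.eq, mul_inv_cancel_right]
  · intro m
    obtain ⟨a, ha, rfl⟩ := L.bar_surj m
    obtain ⟨w, hw, h⟩ := Γ.split ha
    refine ⟨⟨a * w, h⟩, (L.bar_eq _ ha).2 ?_⟩
    show (a * w)⁻¹ * a ∈ L.V
    rw [show (a * w)⁻¹ * a = w⁻¹ by group]
    exact inv_mem hw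

theorem Gam.toQ_val {a : G} (ha : a ∈ Γ.M) : Γ.toQ ⟨a, ha⟩ = L.bar (Γ.M_Hv ha) := rfl

theorem card_psl2_ne (F : Type) [Field F] [Fintype F] :
    Nat.card (Matrix.ProjectiveSpecialLinearGroup (Fin 2) F) ≠ 20160 := by
  intro h
  have hc := Classical.Dickson.card_psl F
  rw [h] at hc
  generalize hq : Fintype.card F = q at hc
  have hle : q ≤ 36 := by
    by_contra hbig
    have h1 : 37 * (37 ^ 2 - 1) ≤ q * (q ^ 2 - 1) :=
      Nat.mul_le_mul (by omega) (Nat.sub_le_sub_right (Nat.pow_le_pow_left (by omega) 2) 1)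
    have h2 : Nat.gcd 2 (q - 1) ≤ 2 := Nat.le_of_dvd (by norm_num) (Nat.gcd_dvd_left _ _)
    have h3 := Nat.mul_le_mul_left 20160 h2
    omega
  interval_cases q <;> norm_num at hc

theorem Gam.iso_psl : ∃ (F : Type) (_ : Field F) (_ : Fintype F), Fintype.card F = 4 ∧
    Nonempty (Γ.M ≃* Matrix.ProjectiveSpecialLinearGroup (Fin 3) F) := by
  obtain ⟨hc, hs, hna⟩ := L.MQ_facts
  haveI := hs
  rcases Cfsg.Agent.Solv.CITGroups.classify hna L.cit (hc ▸ by norm_num)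
      (Cfsg.Agent.Solv.CITGroups.below_all _) with ⟨n, T, hT⟩ | ⟨F, i1, i2, hF, ⟨e⟩⟩ | ⟨-, F, i1, i2, -, ⟨e⟩⟩
  · exfalso
    obtain ⟨i, hi⟩ := IsPGroup.iff_card.1 hT.T2
    have h := hT.cardG
    rw [hc, hi] at h
    have hdvd : 2 ^ i ∣ 2 ^ 6 * 315 := ⟨(2 ^ i + 1) * (2 ^ n - 1), by rw [show 2 ^ 6 * 315 = 20160 by norm_num, h]; ring⟩
    have hdvd6 : 2 ^ i ∣ 2 ^ 6 := (Nat.Coprime.pow_left i (by norm_num : Nat.Coprime 2 315)).dvd_of_dvd_mul_right hdvd
    have hi6 : i ≤ 6 := (Nat.pow_dvd_pow_iff_le_right (by norm_num)).1 hdvd6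
    have hpow : 2 ≤ n := hT.two_le
    have hle : n ≤ 15 := by
      by_contra hb
      have h2 : 2 ^ 16 ≤ 2 ^ n := Nat.pow_le_pow_right (by norm_num) (by omega)
      have h3 : 2 ^ n - 1 ≤ 20160 := Nat.le_of_dvd (by norm_num) ⟨(2 ^ i + 1) * 2 ^ i, by rw [h]; ring⟩
      omega
    rcases hT.kind with ⟨hk, -⟩ | ⟨hk, -⟩ <;> rw [hi] at hk
    · have : i = n := Nat.pow_right_injective le_rfl hk
      subst this
      interval_cases i <;> norm_num at h
    · rw [← pow_mul] at hk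
      have : i = n * 2 := Nat.pow_right_injective le_rfl hk
      subst this
      interval_cases n <;> first | omega | norm_num at h
  · exact ⟨F, i1, i2, hF, ⟨(MulEquiv.ofBijective _ Γ.toQ_bij).trans e⟩⟩
  · exact absurd ((Nat.card_congr e.toEquiv).symm.trans hc) (card_psl2_ne F)

theorem Gam.z_M : z ∈ Γ.M :=
  Γ.mem_M.2 ⟨(L.mem_Hv.1 L.z_Hv).1, (L.mem_Hv.1 L.z_Hv).2, Γ.gz.symm⟩

theorem Gam.invol_M {m : G} (hm : m ∈ Γ.M) (h2 : m * m = 1) (h1 : m ≠ 1) : ∃ q ∈ Γ.M, q * z * q⁻¹ = m := by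
  set e := MulEquiv.ofBijective _ Γ.toQ_bij
  have hb2 : e ⟨m, hm⟩ * e ⟨m, hm⟩ = 1 := by rw [← map_mul, ← map_one e]; exact congrArg e (Subtype.ext h2)
  have hb1 : e ⟨m, hm⟩ ≠ 1 := fun h => h1 (congrArg Subtype.val (e.injective (h.trans (map_one e).symm)))
  obtain ⟨q, hq⟩ := L.invol_conj hb2 hb1
  refine ⟨e.symm q, (e.symm q).2, ?_⟩
  have h := hq
  rw [← e.apply_symm_apply q, show L.bar L.z_Hv = e ⟨z, Γ.z_M⟩ from rfl, ← map_inv, ← map_mul, ← map_mul] at h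
  exact congrArg Subtype.val (e.injective h)

theorem Gam.card_Uz : Nat.card (Γ.M ⊓ Subgroup.centralizer ({z} : Set G) : Subgroup G) = 64 := by
  rw [← L.card_U]
  refine Nat.card_congr (Equiv.ofBijective (fun a => ⟨Γ.toQ ⟨a.1, a.2.1⟩, L.cent_z ?_⟩) ⟨fun a b h => ?_, fun m => ?_⟩)
  · show Commute (Γ.toQ ⟨a.1, a.2.1⟩) (Γ.toQ ⟨z, Γ.z_M⟩)
    rw [Commute, SemiconjBy, ← map_mul, ← map_mul]
    exact congrArg Γ.toQ (Subtype.ext (Subgroup.mem_centralizer_singleton_iff.1 a.2.2))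
  · have := Γ.toQ_bij.1 (congrArg Subtype.val h)
    exact Subtype.ext (congrArg (fun x : Γ.M => (x : G)) this)
  · obtain ⟨a, ha⟩ := Γ.toQ_bij.2 m.1
    refine ⟨⟨a, a.2, Subgroup.mem_centralizer_singleton_iff.2 ?_⟩, Subtype.ext ha⟩
    obtain ⟨g, hg, hgm⟩ := L.mem_U.1 m.2
    have hcz : Commute (Γ.toQ a) (Γ.toQ ⟨z, Γ.z_M⟩) := by
      rw [ha, ← hgm]
      show Commute (L.bar _) (L.bar L.z_Hv)
      rw [Commute, SemiconjBy, ← L.bar_mul, ← L.bar_mul]
      exact L.bar_congr _ _ (L.mem_S₀.1 hg).1.1.eq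
    rw [Commute, SemiconjBy, ← map_mul, ← map_mul] at hcz
    exact congrArg Subtype.val (Γ.toQ_bij.1 hcz)

/-- a value is in the plane of two fixed codes -/
def spanOK : Bool :=
  (List.range 16).all fun u => !(sixB u) || (List.range 16).all fun r => !(perpR u r) ||
    (List.range 16).all fun s => !(perpR u s) || Nat.beq r s ||
      (List.range 16).all fun a => (List.range 16).any fun n => Nat.beq (comb u 4 r s n) a

theorem span_ok : spanOK = true := by decide +kernel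

theorem bit_two (n k : ℕ) : bit n k = 0 ∨ bit n k = 1 := by
  rw [bit, show Nat.land (Nat.shiftRight n k) 1 = Nat.shiftRight n k % 2 from Nat.and_one_is_mod _]
  omega

/-- the planes fixed by a rotation of the other plane -/
def fixSpanOK : Bool :=
  (List.range 16).all fun u => !(sixB u) || (List.range 16).all fun r => !(perpR u r) ||
    (List.range 16).all fun s => !(perpR u s) || Nat.beq r s ||
      (List.range 16).all fun n =>
        !(Nat.beq (comb u 4 r s n) (Nat.xor (Nat.xor (bit n 0 * 4) (bit n 1 * Nat.xor u 4))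
          (Nat.xor (bit n 2 * r) (bit n 3 * s)))) || Nat.beq (bit n 0 + bit n 1) 0

theorem fix_span_ok : fixSpanOK = true := by decide +kernel

/-- the codes fixed by the element lie in the plane of the perpendicular codes -/
theorem Gam.fix_codes {r a : ℕ} (hr : perpR L.u r = true) (ha : a < 16) (h : act (C.pi Γ.g) a = a) :
    a = 0 ∨ a = r ∨ a = L.sw r ∨ a = Nat.xor r (L.sw r) := by
  have hx := L.cube_fix_x Γ.cyc.nv Γ.gz Γ.g3
  have hf := C.pi_fix Γ.gz (Or.inl (by rw [hx.eq, mul_inv_cancel_right]))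
  obtain ⟨hs, hsne, -, -⟩ := L.sw_perp hr
  set s := L.sw r
  have hu : act (C.pi Γ.g) L.u = 4 := by
    obtain ⟨-, -, h2⟩ := C.conj_fix Γ.gz hx (L.mem_S₀.1 (L.V_le (mul_mem L.t_V L.v_V))).1
    rw [Γ.cyc.tv, L.tv_code.2, L.four] at h2
    exact h2.symm
  have h4 : act (C.pi Γ.g) 4 = Nat.xor L.u 4 := by
    obtain ⟨-, -, h2⟩ := C.conj_fix Γ.gz hx L.mem
    rw [Γ.cyc.1, L.v_th, L.four] at h2
    exact h2.symm
  have hr' := L.cube_fix_perp Γ.cyc.nv Γ.gz Γ.g3 hr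
  have hs' := L.cube_fix_perp Γ.cyc.nv Γ.gz Γ.g3 hs
  have hr16 := (perp_spec hr).1
  have hs16 := (perp_spec hs).1
  have hsel : ∀ {p : ℕ} (k : ℕ), p < 16 → k = 0 ∨ k = 1 → k * p < 16 ∧
      act (C.pi Γ.g) (k * p) = k * act (C.pi Γ.g) p := by
    rintro p k hp (rfl | rfl) <;> simp [act_zero, hp]
  have h1 := List.all_eq_true.mp span_ok L.u (List.mem_range.mpr L.u_lt)
  rw [L.six, Bool.not_true, Bool.false_or] at h1
  have h1' := List.all_eq_true.mp h1 r (List.mem_range.mpr hr16)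
  rw [hr, Bool.not_true, Bool.false_or] at h1'
  have h1'' := List.all_eq_true.mp h1' s (List.mem_range.mpr hs16)
  rw [hs, Bool.not_true, Bool.false_or] at h1''
  simp only [Bool.or_eq_true, List.all_eq_true, List.any_eq_true, Nat.beq_eq, List.mem_range] at h1''
  obtain ⟨n, hn, rfl⟩ := h1''.resolve_left (fun e => hsne e.symm) a ha
  obtain ⟨p0, q0⟩ := hsel (bit n 0) L.u_lt (bit_two _ _)
  obtain ⟨p1, q1⟩ := hsel (p := 4) (bit n 1) (by norm_num) (bit_two _ _)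
  obtain ⟨p2, q2⟩ := hsel (bit n 2) hr16 (bit_two _ _)
  obtain ⟨p3, q3⟩ := hsel (bit n 3) hs16 (bit_two _ _)
  have he : act (C.pi Γ.g) (comb L.u 4 r s n) =
      Nat.xor (Nat.xor (bit n 0 * 4) (bit n 1 * Nat.xor L.u 4)) (Nat.xor (bit n 2 * r) (bit n 3 * s)) := by
    rw [comb, act_xor hf (xor_lt16 p0 p1) (xor_lt16 p2 p3), act_xor hf p0 p1, act_xor hf p2 p3, q0, q1, q2, q3,
      hu, h4, hr', hs']
  rw [h] at he
  have h2 := List.all_eq_true.mp fix_span_ok L.u (List.mem_range.mpr L.u_lt)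
  rw [L.six, Bool.not_true, Bool.false_or] at h2
  have h2' := List.all_eq_true.mp h2 r (List.mem_range.mpr hr16)
  rw [hr, Bool.not_true, Bool.false_or] at h2'
  have h2'' := List.all_eq_true.mp h2' s (List.mem_range.mpr hs16)
  rw [hs, Bool.not_true, Bool.false_or] at h2''
  simp only [Bool.or_eq_true, List.all_eq_true, Bool.not_eq_true', Nat.beq_eq, List.mem_range] at h2''
  have hb : bit n 0 + bit n 1 = 0 := by
    rcases h2''.resolve_left (fun e => hsne e.symm) n hn with e | e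
    · exact absurd (Nat.beq_eq ▸ he) (by rw [e]; exact Bool.false_ne_true)
    · exact e
  rw [comb, show bit n 0 = 0 by omega, show bit n 1 = 0 by omega]
  rcases bit_two n 2 with e2 | e2 <;> rcases bit_two n 3 with e3 | e3 <;>
    simp [e2, e3, zero_xor', xor_zero', xor_self']

/-- at least sixteen elements of the complement lie in the extraspecial subgroup -/
theorem Gam.core_big : 16 ≤ Nat.card (Γ.M ⊓ Q : Subgroup G) := by
  classical
  obtain ⟨r, hr⟩ := L.exists_perp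
  have hx := L.cube_fix_x Γ.cyc.nv Γ.gz Γ.g3
  let K : Subgroup G := Γ.M ⊓ Subgroup.centralizer ({z} : Set G)
  have hKR : ∀ k : K, (k : G) ∈ C.R := fun k => by
    obtain ⟨g, hg, e⟩ := L.mem_U.1 (L.cent_z (show Commute (L.bar (Γ.M_Hv k.2.1)) (L.bar L.z_Hv) by
      rw [Commute, SemiconjBy, ← L.bar_mul, ← L.bar_mul]
      exact L.bar_congr _ _ (Subgroup.mem_centralizer_singleton_iff.1 k.2.2)))
    rw [L.bar_eq] at e
    have h := mul_mem hg (L.V_le e)
    rw [mul_inv_cancel_left] at h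
    exact (L.mem_S₀.1 h).1
  let vals : Finset ℕ := {0, r, L.sw r, Nat.xor r (L.sw r)}
  have hval : ∀ k : K, C.th k ∈ vals := fun k => by
    have hfix : act (C.pi Γ.g) (C.th (k : G)) = C.th (k : G) := by
      obtain ⟨-, -, h⟩ := C.conj_fix Γ.gz hx (hKR k)
      rw [(Γ.mem_M.1 k.2.1).2.2.symm.eq, mul_inv_cancel_right] at h
      exact h.symm
    simp only [vals, Finset.mem_insert, Finset.mem_singleton]
    exact Γ.fix_codes hr (C.th_lt' _) hfix
  have hzero : ∀ k : K, C.th (k : G) = 0 → (k : G) ∈ Q := fun k hk => by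
    obtain ⟨a, ha, b, hb, e, -, e2⟩ := C.coords (hKR k)
    obtain ⟨i, j, -, -, e3⟩ := C.th_inj (one_mem _) hb (by rw [C.th_one', ← e2, hk])
    rw [one_mul] at e3
    rw [e, e3]
    exact mul_mem (C.mem_A.1 ha).1 (C.mem_A.1 (C.zel_mem i j).1).1
  have hdiff : ∀ k k' : K, C.th (k : G) = C.th (k' : G) → (k : G)⁻¹ * k' ∈ Γ.M ⊓ Q := fun k k' e => by
    refine Subgroup.mem_inf.2 ⟨mul_mem (inv_mem (show (k : G) ∈ Γ.M from k.2.1)) k'.2.1, hzero (k⁻¹ * k') ?_⟩
    show C.th ((k : G)⁻¹ * k') = 0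
    rw [C.th_mul (inv_mem (hKR k)) (hKR k'), (C.coords_inv (hKR k)).2, e, xor_self']
  let rep : vals → K := fun a => if h : ∃ k : K, C.th (k : G) = (a : ℕ) then h.choose else 1
  have hrep : ∀ k : K, C.th (rep ⟨_, hval k⟩ : G) = C.th (k : G) := fun k => by
    have h : ∃ k' : K, C.th (k' : G) = C.th (k : G) := ⟨k, rfl⟩
    simp only [rep, dif_pos h]
    exact h.choose_spec
  let f : K → vals × (Γ.M ⊓ Q : Subgroup G) := fun k =>
    (⟨_, hval k⟩, ⟨_, hdiff (rep ⟨_, hval k⟩) k (hrep k)⟩)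
  have hf : Function.Injective f := fun k k' e => by
    have e1 := congrArg (fun p => rep p.1) e
    have e2 : (rep ⟨_, hval k⟩ : G)⁻¹ * k = (rep ⟨_, hval k'⟩ : G)⁻¹ * k' := congrArg (fun p => (p.2 : G)) e
    rw [show rep ⟨_, hval k⟩ = rep ⟨_, hval k'⟩ from e1] at e2
    exact Subtype.ext (mul_left_cancel e2)
  have h := Nat.card_le_card_of_injective f hf
  rw [Nat.card_prod, Γ.card_Uz, Nat.card_eq_fintype_card, Fintype.card_coe] at h
  have h4 : vals.card ≤ 4 := Finset.card_le_four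
  by_contra hc
  have := Nat.mul_le_mul h4 (show Nat.card (Γ.M ⊓ Q : Subgroup G) ≤ 15 by omega)
  omega

end Cfsg.Agent.Spor.SuzAmal
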