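import Cfsg.Agent.Lib.Spor.SuzAmal.Config

/-!
Groups of Suzuki sporadic type: the complement of an element of order five in its centraliser is an alternating
group of degree five.
-/

set_option autoImplicit false
set_option maxRecDepth 100000
set_option linter.unusedSectionVars false
set_option linter.style.haveILetI false
set_option synthInstance.maxSize 4000
set_option synthInstance.maxHeartbeats 200000

namespace Cfsg.Agent.Spor.SuzAmal

open Cfsg.Agent.Spor.SuzT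
open Cfsg.Agent.Spor.SuzT.Rad
open Cfsg.Agent.Solv.CITGroups (orderOf_two_iff)
open Equiv

/-- the conditions on the reflection -/
def good5 (t g d : Perm (Fin 5)) : Bool :=
  decide (Perm.sign d = 1) && decide (d * d = 1) && decide (d * g * d = g * g) &&
    decide (d * t * (d * t) * (d * t) = 1)

theorem a5_pairs : ∀ t : Perm (Fin 5), t * t = 1 → t ≠ 1 → Perm.sign t = 1 → ∀ g : Perm (Fin 5),
    g * g * g = 1 → g ≠ 1 → decide (t * g * (t * g) * (t * g) = 1) = true →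
    ∃ d, good5 t g d = true ∧ ∀ e, good5 t g e = true → e = d := by decide +kernel

theorem a5_cent : ∀ g : Perm (Fin 5), g * g * g = 1 → g ≠ 1 → ∀ c : Perm (Fin 5), Perm.sign c = 1 →
    decide (c * g = g * c) = true → c = 1 ∨ c = g ∨ c = g * g := by decide +kernel

universe u

variable {G : Type u} [Group G]

/-- the subgroup generated by the elements of order dividing six in the centraliser -/
def five (x : G) : Subgroup G := Subgroup.closure {c : G | Commute c x ∧ c ^ 6 = 1}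

theorem five_cent {x c : G} (hc : c ∈ five x) : Commute c x := by
  have h : five x ≤ Subgroup.centralizer ({x} : Set G) := (Subgroup.closure_le _).2 fun a ha =>
    Subgroup.mem_centralizer_singleton_iff.2 ha.1
  exact Subgroup.mem_centralizer_singleton_iff.1 (h hc)

theorem five_mem {x c : G} (h : Commute c x) (h6 : c ^ 6 = 1) : c ∈ five x := Subgroup.subset_closure ⟨h, h6⟩

theorem five_conj {x a c : G} (ha : a * x * a⁻¹ = x ∨ a * x * a⁻¹ = x⁻¹) (hc : c ∈ five x) :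
    a * c * a⁻¹ ∈ five x := by
  have h : five x ≤ (five x).comap (MulAut.conj a).toMonoidHom := by
    refine (Subgroup.closure_le _).2 fun b hb => five_mem ?_ (by
      show (a * b * a⁻¹) ^ 6 = 1
      rw [conj_pow, hb.2]; group)
    have h2 := (Commute.conj_iff a).2 hb.1
    rcases ha with e | e <;> rw [e] at h2
    · exact h2
    · exact Commute.inv_right_iff.1 h2
  exact h hc

variable [Finite G] {z : G} {Q : Subgroup G} {C : Rad.Ctx z Q} {L : Cfg C} (Γ : Gam L)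

theorem Gam.ne_one : Γ.g ≠ 1 := fun e => by
  have := Γ.cyc.1
  rw [e, one_mul, inv_one, mul_one] at this
  exact L.t_ne_v this

theorem Gam.ord : orderOf Γ.g = 3 := by
  haveI : Fact (Nat.Prime 3) := ⟨Nat.prime_three⟩
  exact orderOf_eq_prime Γ.g3 Γ.ne_one

/-- the products of the four-group and the element of order three -/
def Gam.A4 (c : G) : Prop := ∃ k : Fin 3, ∃ w ∈ L.V, c = Γ.g ^ (k : ℕ) * w

theorem Gam.A4_invol {c : G} (h : Γ.A4 c) (h2 : c * c = 1) : c ∈ L.V := by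
  obtain ⟨k, w, hw, rfl⟩ := h
  have hwc : ∀ u ∈ L.V, w * u * w⁻¹ = u := fun u hu => by rw [(L.V_comm hw hu).eq, mul_inv_cancel_right]
  have hv : Γ.g ^ (k : ℕ) * L.t * (Γ.g ^ (k : ℕ))⁻¹ ∈ L.V :=
    (Subgroup.mem_normalizer_iff.1 (pow_mem Γ.cyc.nv _) _).1 L.t_V
  have e1 : Γ.g ^ (k : ℕ) * (Γ.g ^ (k : ℕ) * L.t * (Γ.g ^ (k : ℕ))⁻¹) * (Γ.g ^ (k : ℕ))⁻¹ = L.t := by
    have : (Γ.g ^ (k : ℕ) * w) * ((Γ.g ^ (k : ℕ) * w) * L.t * (Γ.g ^ (k : ℕ) * w)⁻¹) * (Γ.g ^ (k : ℕ) * w)⁻¹ = L.t := by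
      calc _ = (Γ.g ^ (k : ℕ) * w * (Γ.g ^ (k : ℕ) * w)) * L.t * (Γ.g ^ (k : ℕ) * w * (Γ.g ^ (k : ℕ) * w))⁻¹ := by
            group
        _ = L.t := by rw [h2]; group
    rw [show Γ.g ^ (k : ℕ) * w * L.t * (Γ.g ^ (k : ℕ) * w)⁻¹ = Γ.g ^ (k : ℕ) * (w * L.t * w⁻¹) * (Γ.g ^ (k : ℕ))⁻¹ by
      group, hwc _ L.t_V] at this
    rw [show Γ.g ^ (k : ℕ) * w * (Γ.g ^ (k : ℕ) * L.t * (Γ.g ^ (k : ℕ))⁻¹) * (Γ.g ^ (k : ℕ) * w)⁻¹ =
      Γ.g ^ (k : ℕ) * (w * (Γ.g ^ (k : ℕ) * L.t * (Γ.g ^ (k : ℕ))⁻¹) * w⁻¹) * (Γ.g ^ (k : ℕ))⁻¹ by group,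
      hwc _ hv] at this
    exact this
  fin_cases k
  · simpa using hw
  · exfalso
    simp only [pow_one] at e1
    rw [Γ.cyc.1, Γ.cyc.2] at e1
    exact Cfg.v_ne_one (L := L) (mul_eq_left.1 e1)
  · exfalso
    have h' : ∀ u : G, Γ.g ^ 2 * u * (Γ.g ^ 2)⁻¹ = Γ.g * (Γ.g * u * Γ.g⁻¹) * Γ.g⁻¹ := fun u => by
      rw [pow_two]; group
    simp only [h'] at e1
    rw [Γ.cyc.1, Γ.cyc.2, Γ.cyc.tv, Γ.cyc.1] at e1
    exact L.t_ne_v e1.symm

/-- an element of order five centralising the four-group and the element of order three -/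
structure Gam.Elt (x : G) : Prop where
  fiv : L.Fiv x
  xg : Commute x Γ.g

variable {Γ} {x : G} (E : Γ.Elt x)
include E

theorem Gam.Elt.V_five {w : G} (hw : w ∈ L.V) : w ∈ five x :=
  five_mem (mem_cX.1 (E.fiv.V_X hw)) (by rw [show 6 = 2 * 3 from rfl, pow_mul, pow_two, L.V_sq hw, one_pow])

theorem Gam.Elt.g_five : Γ.g ∈ five x :=
  five_mem E.xg.symm (by rw [show 6 = 3 * 2 from rfl, pow_mul, Γ.g3, one_pow])

theorem Gam.Elt.A4_five {c : G} (h : Γ.A4 c) : c ∈ five x := by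
  obtain ⟨k, w, hw, rfl⟩ := h
  exact mul_mem (pow_mem E.g_five _) (E.V_five hw)

theorem Gam.Elt.meet {c : G} (hc : c ∈ five x) (h : c ∈ Subgroup.zpowers x) : c = 1 := by
  classical
  haveI : Fact (Nat.Prime 5) := ⟨by norm_num⟩
  obtain ⟨P⟩ : Nonempty (Sylow 5 (cX x)) := inferInstance
  have hP : Nat.card (P : Subgroup (cX x)) = 25 := L.twentyfive_max (L.five_dvd_cX E.fiv.ord) P
  letI : CommGroup (P : Subgroup (cX x)) :=
    IsPGroup.commGroupOfCardEqPrimeSq (show Nat.card (P : Subgroup (cX x)) = 5 ^ 2 by rw [hP]; norm_num)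
  have hidx : (P : Subgroup (cX x)).index = 12 := by
    have h' := (P : Subgroup (cX x)).card_mul_index
    rw [hP, E.fiv.card_cX] at h'
    omega
  let f : cX x →* (P : Subgroup (cX x)) := MonoidHom.transfer (MonoidHom.id (P : Subgroup (cX x)))
  have hX : five x ≤ cX x := fun a ha => mem_cX.2 (five_cent ha)
  have hker : (five x).subgroupOf (cX x) ≤ f.ker := by
    intro a ha
    have key : ∀ b : G, b ∈ five x → ∃ hb : b ∈ cX x, f ⟨b, hb⟩ = 1 := by
      intro b hb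
      induction hb using Subgroup.closure_induction with
      | mem b hb =>
        refine ⟨mem_cX.2 hb.1, orderOf_eq_one_iff.1 (Nat.eq_one_of_dvd_coprimes (by norm_num : Nat.Coprime 25 6)
          (hP ▸ orderOf_dvd_natCard _) ((orderOf_map_dvd f _).trans (orderOf_dvd_of_pow_eq_one (Subtype.ext hb.2))))⟩
      | one => exact ⟨one_mem _, map_one f⟩
      | mul b c _ _ hb hc =>
        obtain ⟨hb, e⟩ := hb
        obtain ⟨hc, e'⟩ := hc
        refine ⟨mul_mem hb hc, ?_⟩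
        rw [show (⟨b * c, mul_mem hb hc⟩ : cX x) = ⟨b, hb⟩ * ⟨c, hc⟩ from rfl, map_mul, e, e', one_mul]
      | inv b _ hb =>
        obtain ⟨hb, e⟩ := hb
        refine ⟨inv_mem hb, ?_⟩
        rw [show (⟨b⁻¹, inv_mem hb⟩ : cX x) = ⟨b, hb⟩⁻¹ from rfl, map_inv, e, inv_one]
    obtain ⟨_, e⟩ := key _ ha
    exact e
  obtain ⟨i, rfl⟩ := h
  have hcen : ∀ g₀ : cX x, Commute (⟨x ^ i, hX hc⟩ : cX x) g₀ := fun g₀ =>
    Subtype.ext ((mem_cX.1 g₀.2).symm.zpow_left i).eq
  have he := hker (show (⟨x ^ i, hX hc⟩ : cX x) ∈ (five x).subgroupOf (cX x) from hc)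
  rw [MonoidHom.mem_ker, MonoidHom.transfer_eq_pow _ _ fun k g₀ _ => by
    rw [mul_assoc, ((hcen g₀).pow_left k).eq, inv_mul_cancel_left]] at he
  have h12 : (x ^ i) ^ 12 = 1 := by
    rw [← hidx]
    exact congrArg (fun a : (P : Subgroup (cX x)) => ((a : cX x) : G)) he
  exact orderOf_eq_one_iff.1 (Nat.eq_one_of_dvd_coprimes (by norm_num : Nat.Coprime 5 12)
    (orderOf_dvd_of_pow_eq_one (E.fiv.mem_pow ⟨i, rfl⟩)) (orderOf_dvd_of_pow_eq_one h12))

/-- elements of the subgroup normalising the four-group -/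
theorem Gam.Elt.NV_A4 {c : G} (hc : c ∈ five x) (hn : c ∈ L.NV) : Γ.A4 c := by
  obtain ⟨k, w, hw, i, e⟩ := E.fiv.NV_dec Γ.cyc E.xg.symm hn (five_cent hc)
  refine ⟨k, w, hw, ?_⟩
  have h : x ^ i = 1 := E.meet
    ((Subgroup.mul_mem_cancel_left _ (E.A4_five ⟨k, w, hw, rfl⟩)).1 (e ▸ hc)) (Subgroup.npow_mem_zpowers x i)
  rw [e, h, mul_one]

theorem Gam.Elt.card_dvd : 12 ∣ Nat.card (five x) := by
  have h3 := Subgroup.orderOf_dvd_natCard _ E.g_five
  have h4 := Subgroup.card_dvd_of_le (show L.V ≤ five x from fun w hw => E.V_five hw)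
  rw [Γ.ord] at h3
  rw [L.card_V] at h4
  exact (show Nat.Coprime 4 3 by norm_num).mul_dvd_of_dvd_of_dvd h4 h3

theorem Gam.Elt.card : Nat.card (five x) = 60 := by
  classical
  let q : five x →* cX x ⧸ cB x :=
    (QuotientGroup.mk' (cB x)).comp (Subgroup.inclusion fun a ha => mem_cX.2 (five_cent ha))
  have hq : Function.Injective q := (MonoidHom.ker_eq_bot_iff _).1 ((Subgroup.eq_bot_iff_forall _).2 fun a ha =>
    Subtype.ext (E.meet a.2 ((QuotientGroup.eq_one_iff (N := cB x)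
      (⟨(a : G), mem_cX.2 (five_cent a.2)⟩ : cX x)).1 ha)))
  have hd := Subgroup.card_dvd_of_injective q hq
  rw [E.fiv.quot_sixty] at hd
  have hle := Nat.le_of_dvd (by norm_num) hd
  have hd12 := E.card_dvd
  rcases (show Nat.card (five x) = 12 ∨ Nat.card (five x) = 60 by
    revert hd hle hd12
    generalize Nat.card (five x) = n
    intros
    have : 0 < n := Nat.pos_of_dvd_of_pos (by assumption : n ∣ 60) (by norm_num)
    interval_cases n <;> omega) with h | h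
  · exfalso
    let ι : Fin 3 × L.V → five x := fun p => ⟨Γ.g ^ (p.1 : ℕ) * p.2, E.A4_five ⟨p.1, _, p.2.2, rfl⟩⟩
    have hι : Function.Injective ι := by
      rintro ⟨k, w⟩ ⟨k', w'⟩ e
      have e' : Γ.g ^ (k : ℕ) * w = Γ.g ^ (k' : ℕ) * w' := congrArg Subtype.val e
      have hm : (Γ.g ^ (k' : ℕ))⁻¹ * Γ.g ^ (k : ℕ) ∈ L.V := by
        rw [show (Γ.g ^ (k' : ℕ))⁻¹ * Γ.g ^ (k : ℕ) = (Γ.g ^ (k' : ℕ))⁻¹ * (Γ.g ^ (k : ℕ) * w) * (w : G)⁻¹ by group,
          e', inv_mul_cancel_left]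
        exact mul_mem w'.2 (inv_mem w.2)
      have h1 : (Γ.g ^ (k' : ℕ))⁻¹ * Γ.g ^ (k : ℕ) = 1 := Γ.V_fix hm (by group)
      have hk : (k : ℕ) = k' := pow_injOn_Iio_orderOf (by rw [Γ.ord]; exact k.2) (by rw [Γ.ord]; exact k'.2)
        (inv_mul_eq_one.1 h1).symm
      obtain rfl := Fin.ext hk
      exact Prod.ext rfl (Subtype.ext (mul_left_cancel e'))
    haveI : Fintype (five x) := Fintype.ofFinite _
    haveI : Fintype L.V := Fintype.ofFinite _
    have hsur : Function.Surjective ι := ((Fintype.bijective_iff_injective_and_card ι).2 ⟨hι, by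
      rw [Fintype.card_prod, Fintype.card_fin, ← Nat.card_eq_fintype_card, L.card_V, ← Nat.card_eq_fintype_card,
        h]⟩).2
    have hall : ∀ c ∈ five x, Γ.A4 c := fun c hc => by
      obtain ⟨⟨k, w⟩, e⟩ := hsur ⟨c, hc⟩
      exact ⟨k, w, w.2, (congrArg Subtype.val e).symm⟩
    have hnv : ∀ c : cX x, ∃ k : Fin 3, ∃ w ∈ L.V, ∃ i : ℕ, (c : G) = Γ.g ^ (k : ℕ) * w * x ^ i := fun c => by
      refine E.fiv.NV_dec Γ.cyc E.xg.symm (Tw.mem_normalizer_of fun w hw => ?_) (mem_cX.1 c.2)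
      have h2 : (c : G) * w * (c : G)⁻¹ * ((c : G) * w * (c : G)⁻¹) = 1 := by rw [conj_mul, L.V_sq hw]; group
      refine Γ.A4_invol (hall _ (five_mem ?_ ?_)) h2
      · exact ((mem_cX.1 c.2).mul_left (mem_cX.1 (E.fiv.V_X hw))).mul_left (mem_cX.1 c.2).inv_left
      · rw [show 6 = 2 * 3 from rfl, pow_mul, pow_two, h2, one_pow]
    choose k w hw i hi using hnv
    let F : cX x → (Fin 3 × L.V) × Subgroup.zpowers x := fun c =>
      ((k c, ⟨w c, hw c⟩), ⟨x ^ i c, Subgroup.npow_mem_zpowers x _⟩)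
    have hF : Function.Injective F := fun a b e => Subtype.ext (by
      simp only [F, Prod.ext_iff, Subtype.ext_iff] at e
      rw [hi a, hi b, e.1.1, e.1.2, e.2])
    have := Nat.card_le_card_of_injective F hF
    rw [E.fiv.card_cX, Nat.card_prod, Nat.card_prod, Nat.card_fin, L.card_V, Nat.card_zpowers, E.fiv.ord] at this
    omega
  · exact h

/-- a subgroup containing the four-group, the element of order three and one more element is everything -/
theorem Gam.Elt.gen {W : Subgroup G} (ht : L.t ∈ W) (hg : Γ.g ∈ W) {y : G} (hy : y ∈ five x) (hyW : y ∈ W)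
    (hy4 : ¬ Γ.A4 y) : five x ≤ W := by
  classical
  have hv : L.v ∈ W := Γ.cyc.1 ▸ mul_mem (mul_mem hg ht) (inv_mem hg)
  have hV : L.V ≤ W := fun w hw => by
    rcases hw with rfl | rfl | rfl | rfl
    exacts [one_mem _, ht, hv, mul_mem ht hv]
  set K := five x ⊓ W with hK
  have hd := Subgroup.card_dvd_of_le (inf_le_left : K ≤ five x)
  rw [E.card] at hd
  have h4 := Subgroup.card_dvd_of_le (show L.V ≤ K from fun w hw => ⟨E.V_five hw, hV hw⟩)
  have h3 := Subgroup.orderOf_dvd_natCard _ (show Γ.g ∈ K from ⟨E.g_five, hg⟩)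
  rw [Γ.ord] at h3
  rw [L.card_V] at h4
  have h12 : 12 ∣ Nat.card K := (show Nat.Coprime 4 3 by norm_num).mul_dvd_of_dvd_of_dvd h4 h3
  have hne : Nat.card K ≠ 12 := by
    intro h
    let F : Option (Fin 3 × L.V) → K := fun o => o.elim ⟨y, hy, hyW⟩ fun p =>
      ⟨Γ.g ^ (p.1 : ℕ) * p.2, E.A4_five ⟨p.1, _, p.2.2, rfl⟩, mul_mem (pow_mem hg _) (hV p.2.2)⟩
    have hF : Function.Injective F := by
      rintro (_ | ⟨k, w⟩) (_ | ⟨k', w'⟩) e
      · rfl
      · exact absurd ⟨k', w', w'.2, congrArg Subtype.val e⟩ hy4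
      · exact absurd ⟨k, w, w.2, (congrArg Subtype.val e).symm⟩ hy4
      · have e' : Γ.g ^ (k : ℕ) * w = Γ.g ^ (k' : ℕ) * w' := congrArg Subtype.val e
        have hm : (Γ.g ^ (k' : ℕ))⁻¹ * Γ.g ^ (k : ℕ) ∈ L.V := by
          rw [show (Γ.g ^ (k' : ℕ))⁻¹ * Γ.g ^ (k : ℕ) = (Γ.g ^ (k' : ℕ))⁻¹ * (Γ.g ^ (k : ℕ) * w) * (w : G)⁻¹ by group,
            e', inv_mul_cancel_left]
          exact mul_mem w'.2 (inv_mem w.2)
        have hk : (k : ℕ) = k' := pow_injOn_Iio_orderOf (by rw [Γ.ord]; exact k.2) (by rw [Γ.ord]; exact k'.2)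
          (inv_mul_eq_one.1 (Γ.V_fix hm (by group))).symm
        obtain rfl := Fin.ext hk
        obtain rfl := Subtype.ext (mul_left_cancel e')
        rfl
    have := Nat.card_le_card_of_injective F hF
    rw [Finite.card_option, Nat.card_prod, Nat.card_fin, L.card_V, h] at this
    omega
  have h60 : Nat.card K = 60 := by
    have hle := Nat.le_of_dvd (by norm_num) hd
    revert hd h12 hne hle
    generalize Nat.card K = n
    intros
    have : 0 < n := Nat.pos_of_dvd_of_pos (by assumption : n ∣ 60) (by norm_num)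
    interval_cases n <;> omega
  intro c hc
  rw [← Subgroup.eq_of_le_of_card_ge (inf_le_left : K ≤ five x) (by rw [h60, E.card])] at hc
  exact hc.2

theorem Gam.Elt.exists_perm : ∃ φ : five x →* Perm (Fin 5), Function.Injective φ ∧ φ.range = alternatingGroup (Fin 5) := by
  classical
  set A : Subgroup (five x) := L.NV.subgroupOf (five x) with hA
  have hA4 : ∀ a : five x, a ∈ A ↔ Γ.A4 a := fun a => ⟨fun h => E.NV_A4 a.2 h, fun ⟨k, w, hw, e⟩ => by
    show (a : G) ∈ L.NV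
    rw [e]
    exact mul_mem (pow_mem Γ.cyc.nv _) (Subgroup.le_normalizer hw)⟩
  have hA12 : Nat.card A ≤ 12 := by
    choose k w hw hkw using fun a : A => (hA4 a.1).1 a.2
    have hF : Function.Injective (fun a : A => ((k a, ⟨w a, hw a⟩) : Fin 3 × L.V)) := fun a b e => by
      simp only [Prod.ext_iff, Subtype.ext_iff] at e
      exact Subtype.ext (Subtype.ext (by rw [hkw a, hkw b, e.1, e.2]))
    exact (Nat.card_le_card_of_injective _ hF).trans_eq (by rw [Nat.card_prod, Nat.card_fin, L.card_V])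
  have hA12' : 12 ∣ Nat.card A := by
    have h4 := Subgroup.card_dvd_of_le (show L.V.subgroupOf (five x) ≤ A from fun w hw => Subgroup.le_normalizer hw)
    rw [Nat.card_congr (Subgroup.subgroupOfEquivOfLe fun w hw => E.V_five hw).toEquiv, L.card_V] at h4
    have h3 := Subgroup.orderOf_dvd_natCard A (show (⟨Γ.g, E.g_five⟩ : five x) ∈ A from Γ.cyc.nv)
    rw [Subgroup.orderOf_mk, Γ.ord] at h3
    exact (show Nat.Coprime 4 3 by norm_num).mul_dvd_of_dvd_of_dvd h4 h3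
  have hAc : Nat.card A = 12 := le_antisymm hA12 (Nat.le_of_dvd Nat.card_pos hA12')
  have hidx : Nat.card (five x ⧸ A) = 5 := by
    have h := A.card_mul_index
    rw [hAc, E.card] at h
    have : A.index = 5 := by omega
    exact this
  let e5 : (five x ⧸ A) ≃ Fin 5 := Finite.equivFinOfCardEq hidx
  let φ : five x →* Perm (Fin 5) := e5.permCongrHom.toMonoidHom.comp (MulAction.toPermHom (five x) (five x ⧸ A))
  have hφ : Function.Injective φ := by
    refine (e5.permCongrHom.injective.comp ?_)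
    rw [← MonoidHom.ker_eq_bot_iff, ← Subgroup.normalCore_eq_ker]
    set N := A.normalCore with hN
    have hNA : N ≤ A := A.normalCore_le
    refine (Subgroup.eq_bot_iff_forall _).2 fun a ha => ?_
    by_contra hne
    obtain ⟨w, hwV, hw1, hwN⟩ : ∃ w, ∃ hw : w ∈ L.V, w ≠ 1 ∧ (⟨w, E.V_five hw⟩ : five x) ∈ N := by
      by_cases hat : Commute (a : G) L.t
      · obtain ⟨k, w, hw, e⟩ := (hA4 a).1 (hNA ha)
        have hk : (k : ℕ) = 0 := by
          have hgt : Commute (Γ.g ^ (k : ℕ)) L.t := by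
            have h2 := hat.mul_left (L.V_comm (inv_mem hw) L.t_V)
            rwa [e, mul_inv_cancel_right] at h2
          have h3 := mul_inv_eq_iff_eq_mul.2 hgt.eq
          revert h3
          fin_cases k
          · intro _; rfl
          · intro h3
            simp only [pow_one] at h3
            exact absurd (h3.symm.trans Γ.cyc.1) L.t_ne_v
          · intro h3
            rw [show ((⟨2, by norm_num⟩ : Fin 3) : ℕ) = 2 from rfl, pow_two,
              show Γ.g * Γ.g * L.t * (Γ.g * Γ.g)⁻¹ = Γ.g * (Γ.g * L.t * Γ.g⁻¹) * Γ.g⁻¹ by group, Γ.cyc.1, Γ.cyc.2] at h3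
            exact absurd (mul_eq_left.1 h3) Cfg.v_ne_one
        rw [hk, pow_zero, one_mul] at e
        refine ⟨w, hw, fun e1 => hne (Subtype.ext (e.trans e1)), ?_⟩
        rwa [show (⟨w, E.V_five hw⟩ : five x) = a from Subtype.ext e.symm]
      · have hV : (a : G) * L.t * (a : G)⁻¹ * L.t ∈ L.V :=
          mul_mem ((Subgroup.mem_normalizer_iff.1 (hNA ha : (a : G) ∈ L.NV) _).1 L.t_V) L.t_V
        refine ⟨_, hV, fun e1 => hat (mul_inv_eq_iff_eq_mul.1 ?_), ?_⟩
        · rw [eq_inv_of_mul_eq_one_left e1, inv_eq_of_mul_eq_one_right L.sq]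
        · have ht' : (⟨L.t, E.V_five L.t_V⟩ : five x)⁻¹ = ⟨L.t, E.V_five L.t_V⟩ :=
            Subtype.ext (inv_eq_of_mul_eq_one_right L.sq)
          have h := mul_mem ha (A.normalCore_normal.conj_mem _ (inv_mem ha) ⟨L.t, E.V_five L.t_V⟩)
          rw [ht'] at h
          convert h using 1
          exact Subtype.ext (by simp only [Subgroup.coe_mul, Subgroup.coe_inv]; group)
    have hNn := A.normalCore_normal
    have hgw : ∀ {w : G} (hw : w ∈ L.V), (⟨w, E.V_five hw⟩ : five x) ∈ N → ∀ hw' : Γ.g * w * Γ.g⁻¹ ∈ L.V,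
        (⟨_, E.V_five hw'⟩ : five x) ∈ N := fun hw h hw' => by
      convert hNn.conj_mem _ h ⟨Γ.g, E.g_five⟩ using 1
      exact Subtype.ext rfl
    have hVN : ∀ u, ∀ hu : u ∈ L.V, (⟨u, E.V_five hu⟩ : five x) ∈ N := by
      have h1 : ∀ {u u' : G} (hu : u ∈ L.V) (hu' : u' ∈ L.V), Γ.g * u * Γ.g⁻¹ = u' →
          (⟨u, E.V_five hu⟩ : five x) ∈ N → (⟨u', E.V_five hu'⟩ : five x) ∈ N := fun hu hu' e h => by
        subst e; exact hgw hu h hu'
      have htv := mul_mem L.t_V L.v_V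
      have hall : (⟨L.t, E.V_five L.t_V⟩ : five x) ∈ N ∧ (⟨L.v, E.V_five L.v_V⟩ : five x) ∈ N ∧
          (⟨L.t * L.v, E.V_five htv⟩ : five x) ∈ N := by
        rcases hwV with e | e | e | e
        · exact absurd e hw1
        · subst e
          have hv := h1 L.t_V L.v_V Γ.cyc.1 hwN
          exact ⟨hwN, hv, h1 L.v_V htv Γ.cyc.2 hv⟩
        · subst e
          have hw2 := h1 L.v_V htv Γ.cyc.2 hwN
          exact ⟨h1 htv L.t_V Γ.cyc.tv hw2, hwN, hw2⟩
        · subst e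
          have ht := h1 htv L.t_V Γ.cyc.tv hwN
          exact ⟨ht, h1 L.t_V L.v_V Γ.cyc.1 ht, hwN⟩
      intro u hu
      rcases id hu with e | e | e | e <;> subst e
      exacts [one_mem N, hall.1, hall.2.1, hall.2.2]
    have hall : ∀ c : five x, c ∈ A := fun c => by
      show (c : G) ∈ L.NV
      refine Tw.mem_normalizer_of fun u hu => ?_
      exact Γ.A4_invol ((hA4 _).1 (hNA (hNn.conj_mem _ (hVN u hu) c)))
        (by rw [conj_mul, L.V_sq hu]; group)
    have := Subgroup.eq_top_iff' A |>.2 hall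
    rw [this, Subgroup.card_top, E.card] at hAc
    omega
  refine ⟨φ, hφ, Equiv.Perm.eq_alternatingGroup_of_index_eq_two ?_⟩
  have h := φ.range.card_mul_index
  rw [← Nat.card_congr (φ.ofInjective hφ).toEquiv, E.card, Nat.card_perm, Nat.card_fin,
    show Nat.factorial 5 = 120 by rfl] at h
  omega

/-- the conditions on the reflection -/
def Gam.Refl (d : G) : Prop := d * d = 1 ∧ d * Γ.g * d = Γ.g⁻¹ ∧ (d * L.t) ^ 3 = 1

theorem Gam.Elt.exists_d : ∃ d ∈ five x, Γ.Refl d ∧ ∀ e ∈ five x, Γ.Refl e → e = d := by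
  obtain ⟨φ, hφ, hr⟩ := E.exists_perm
  set T : five x := ⟨L.t, E.V_five L.t_V⟩
  set g : five x := ⟨Γ.g, E.g_five⟩
  have hs : ∀ a, Perm.sign (φ a) = 1 := fun a => Perm.mem_alternatingGroup.1 (hr ▸ ⟨a, rfl⟩)
  have h1 : ∀ {a : five x}, φ a = 1 ↔ (a : G) = 1 := fun {a} => by
    rw [← map_one φ, hφ.eq_iff, Subtype.ext_iff]; rfl
  have hgg : Γ.g⁻¹ = Γ.g * Γ.g := by
    refine inv_eq_of_mul_eq_one_right ?_
    rw [← mul_assoc, ← pow_three', Γ.g3]
  have htg : L.t * Γ.g * (L.t * Γ.g) * (L.t * Γ.g) = 1 := by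
    have e : L.t * (Γ.g * L.t * Γ.g⁻¹) * (Γ.g * (Γ.g * L.t * Γ.g⁻¹) * Γ.g⁻¹) * Γ.g ^ 3 =
        L.t * Γ.g * (L.t * Γ.g) * (L.t * Γ.g) := by rw [pow_three]; group
    rw [← e, Γ.cyc.1, Γ.cyc.2, Γ.g3, mul_one, ← mul_assoc, mul_assoc L.t L.v, L.v_t.eq, ← mul_assoc, L.sq,
      one_mul, L.v_sq]
  obtain ⟨d', hd', huniq⟩ := a5_pairs (φ T) (by rw [← map_mul, h1]; exact L.sq) (fun h => L.ne_one (h1.1 h)) (hs _)
    (φ g) (by rw [← map_mul, ← map_mul, h1]; show Γ.g * Γ.g * Γ.g = 1; rw [← pow_three', Γ.g3])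
    (fun h => Γ.ne_one (h1.1 h)) (decide_eq_true (by simp only [← map_mul]; rw [h1]; exact htg))
  have hgood : ∀ a : five x, good5 (φ T) (φ g) (φ a) = true ↔ Γ.Refl a := fun a => by
    simp only [good5, Bool.and_eq_true, decide_eq_true_eq, hs, true_and, ← map_mul, h1, hφ.eq_iff, Subtype.ext_iff]
    simp only [Gam.Refl, Subgroup.coe_mul, T, g, hgg, pow_three', and_assoc]
  obtain ⟨d, rfl⟩ : d' ∈ φ.range := by
    rw [hr]
    simp only [good5, Bool.and_eq_true, decide_eq_true_eq] at hd'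
    exact Perm.mem_alternatingGroup.2 hd'.1.1.1
  exact ⟨d, d.2, (hgood d).1 hd', fun e he h => congrArg Subtype.val (hφ (huniq (φ ⟨e, he⟩) ((hgood _).2 h)))⟩

theorem Gam.Elt.cent_g {c : G} (hc : c ∈ five x) (h : Commute c Γ.g) : c ∈ Subgroup.zpowers Γ.g := by
  obtain ⟨φ, hφ, hr⟩ := E.exists_perm
  set g : five x := ⟨Γ.g, E.g_five⟩
  have h1 : ∀ {a : five x}, φ a = 1 ↔ (a : G) = 1 := fun {a} => by
    rw [← map_one φ, hφ.eq_iff, Subtype.ext_iff]; rfl
  rcases a5_cent (φ g) (by rw [← map_mul, ← map_mul, h1]; show Γ.g * Γ.g * Γ.g = 1; rw [← pow_three', Γ.g3])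
      (fun e => Γ.ne_one (h1.1 e)) (φ ⟨c, hc⟩) (Perm.mem_alternatingGroup.1 (hr ▸ ⟨_, rfl⟩))
      (decide_eq_true (by rw [← map_mul, ← map_mul]; exact congrArg φ (Subtype.ext h.eq))) with e | e | e
  · have := h1.1 e
    rw [show c = 1 from this]
    exact one_mem _
  · rw [show c = Γ.g from congrArg Subtype.val (hφ e)]
    exact Subgroup.mem_zpowers _
  · rw [← map_mul] at e
    rw [show c = Γ.g * Γ.g from congrArg Subtype.val (hφ e)]
    exact mul_mem (Subgroup.mem_zpowers _) (Subgroup.mem_zpowers _)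

theorem Gam.Elt.d_out {d : G} (hd : Γ.Refl d) : ¬ Γ.A4 d := by
  intro h
  have hdV := Γ.A4_invol h hd.1
  have hc : Γ.g * d * Γ.g⁻¹ = d * Γ.g := by
    have e : Γ.g * d = d * Γ.g * Γ.g := by
      have := hd.2.1
      have e1 : Γ.g * d = d * Γ.g⁻¹ := by
        rw [← this, ← mul_assoc, ← mul_assoc, hd.1, one_mul]
      rw [e1, mul_assoc, inv_eq_of_mul_eq_one_right (show Γ.g * (Γ.g * Γ.g) = 1 by rw [← mul_assoc, ← pow_three', Γ.g3])]
    rw [e, mul_inv_cancel_right]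
  have hgV : Γ.g ∈ L.V := by
    have := (Subgroup.mem_normalizer_iff.1 Γ.cyc.nv d).1 hdV
    rw [hc] at this
    exact (Subgroup.mul_mem_cancel_left _ hdV).1 this
  exact Γ.ne_one (Γ.V_fix hgV (by group))

theorem Gam.Elt.dtd_out {d : G} (hd5 : d ∈ five x) (hd : Γ.Refl d) : ¬ Γ.A4 (d * L.t * d) := by
  intro h
  have hdi : d⁻¹ = d := inv_eq_of_mul_eq_one_right hd.1
  have ht : d * L.t * d ∈ L.V := Γ.A4_invol h (by
    rw [show d * L.t * d * (d * L.t * d) = d * L.t * (d * d) * L.t * d by group, hd.1, mul_one, mul_assoc d L.t L.t,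
      L.sq, mul_one, hd.1])
  have hv : d * L.v * d ∈ L.V := by
    have hdg : Γ.g * d = d * Γ.g⁻¹ := by rw [← hd.2.1, ← mul_assoc, ← mul_assoc, hd.1, one_mul]
    have hgd : d * Γ.g = Γ.g⁻¹ * d := by
      rw [← hd.2.1, mul_assoc (d * Γ.g), hd.1, mul_one]
    have e : Γ.g⁻¹ * (d * L.t * d) * Γ.g = d * L.v * d := by
      calc Γ.g⁻¹ * (d * L.t * d) * Γ.g = (Γ.g⁻¹ * d) * L.t * (d * Γ.g) := by group
        _ = d * Γ.g * L.t * (Γ.g⁻¹ * d) := by rw [← hgd, hgd]
        _ = _ := by rw [← Γ.cyc.1]; group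
    rw [← e]
    exact (Subgroup.mem_normalizer_iff''.1 Γ.cyc.nv _).1 ht
  refine E.d_out hd (E.NV_A4 hd5 (Tw.mem_normalizer_of fun w hw => ?_))
  rw [hdi]
  rcases hw with e | e | e | e <;> subst e
  · rw [mul_one, hd.1]; exact one_mem _
  · exact ht
  · exact hv
  · rw [show d * (L.t * L.v) * d = d * L.t * (d * d) * L.v * d by rw [hd.1]; group,
      show d * L.t * (d * d) * L.v * d = (d * L.t * d) * (d * L.v * d) by group]
    exact mul_mem ht hv

end Cfsg.Agent.Spor.SuzAmal
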