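import Cfsg.Agent.Lib.Spor.SuzAmal.Five

/-!
Groups of Suzuki sporadic type: the five elements of the complement completing the pair of the four-group and the
reflection to a generating system.
-/

set_option autoImplicit false
set_option maxRecDepth 100000
set_option linter.unusedSectionVars false
set_option linter.style.haveILetI false

namespace Cfsg.Agent.Spor.SuzAmal

open Cfsg.Agent.Spor.SuzT
open Cfsg.Agent.Spor.SuzT.Rad
open Cfsg.Agent.Spor.SuzT.Chk
open Cfsg.Agent.Solv.CITGroups (orderOf_two_iff)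

universe u

variable {G : Type u} [Group G] [Finite G] {z : G} {Q : Subgroup G} {C : Rad.Ctx z Q} {L : Cfg C}

/-- coordinates on the complement and the reflection -/
structure Setup (Γ : Gam L) where
  /-- coordinates -/
  θ : PG ≃* Γ.M
  zz : ((θ ⟨gen 0, gen_mem 0⟩ : Γ.M) : G) = z
  /-- the reflection -/
  d : G
  d_five : d ∈ five ((θ ⟨wp [0, 1], wp_mem' _⟩ : Γ.M) : G)
  refl : Γ.Refl d
  uniq : ∀ e ∈ five ((θ ⟨wp [0, 1], wp_mem' _⟩ : Γ.M) : G), Γ.Refl e → e = d

theorem gen_ne : gen 0 ≠ 1 ∧ wp [0, 1] ≠ 1 ∧ wp [0, 1] ^ 5 = 1 := by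
  refine ⟨fun h => ?_, fun h => ?_, ?_⟩
  · have h0 : same [0] [] = true := same_spec.2 (by rw [wp_nil, wp_cons, wp_nil, mul_one, h])
    exact absurd h0 (by decide +kernel)
  · have h0 : same [0, 1] [] = true := same_spec.2 h
    exact absurd h0 (by decide +kernel)
  · rw [← wp_pw, ← wp_nil]
    exact same_spec.1 (by decide +kernel)

theorem elt_of (Γ : Gam L) (θ : PG ≃* Γ.M) : Γ.Elt ((θ ⟨wp [0, 1], wp_mem' _⟩ : Γ.M) : G) := by
  haveI : Fact (Nat.Prime 5) := ⟨by norm_num⟩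
  obtain ⟨-, h1, h5⟩ := gen_ne
  refine ⟨⟨Γ.M_Hv (θ ⟨wp [0, 1], wp_mem' _⟩).2, ?_⟩, (Γ.mem_M.1 (θ ⟨wp [0, 1], wp_mem' _⟩).2).2.2⟩
  rw [Subgroup.orderOf_coe, MulEquiv.orderOf_eq]
  exact orderOf_eq_prime (Subtype.ext h5) fun e => h1 (congrArg Subtype.val e)

theorem exists_setup (Γ : Gam L) : Nonempty (Setup Γ) := by
  obtain ⟨F, i1, i2, hF, ⟨e⟩⟩ := Γ.iso_psl
  obtain ⟨e'⟩ := model_equiv F hF
  let θ₀ : PG ≃* Γ.M := e'.trans e.symm
  have hsq : gen 0 * gen 0 = 1 := rels.2.2.2.2.2.2.2.2 0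
  obtain ⟨q, hq, hqm⟩ := Γ.invol_M (θ₀ ⟨gen 0, gen_mem 0⟩).2
    (by rw [← Subgroup.coe_mul, ← map_mul, show (⟨gen 0, gen_mem 0⟩ : PG) * ⟨gen 0, gen_mem 0⟩ = 1 from Subtype.ext hsq,
      map_one, Subgroup.coe_one])
    (fun h => gen_ne.1 (congrArg Subtype.val (θ₀.injective ((Subtype.ext h : θ₀ ⟨gen 0, gen_mem 0⟩ = 1).trans (map_one θ₀).symm))))
  let θ : PG ≃* Γ.M := θ₀.trans (MulAut.conj (⟨q⁻¹, inv_mem hq⟩ : Γ.M))
  have hzz : ((θ ⟨gen 0, gen_mem 0⟩ : Γ.M) : G) = z := by
    show q⁻¹ * (θ₀ ⟨gen 0, gen_mem 0⟩ : G) * (q⁻¹)⁻¹ = z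
    rw [← hqm]; group
  obtain ⟨d, h1, h2, h3⟩ := (elt_of Γ θ).exists_d
  exact ⟨⟨θ, hzz, d, h1, h2, h3⟩⟩

variable {Γ : Gam L} (S : Setup Γ)

/-- a word in the complement -/
noncomputable def Setup.el (w : List ℕ) : G := (S.θ ⟨wp w, wp_mem' w⟩ : Γ.M)

/-- the element of order five -/
noncomputable abbrev Setup.x : G := S.el [0, 1]

theorem Setup.el_M (w : List ℕ) : S.el w ∈ Γ.M := (S.θ ⟨wp w, wp_mem' w⟩).2

theorem Setup.el_append (v w : List ℕ) : S.el (v ++ w) = S.el v * S.el w := by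
  rw [Setup.el, Setup.el, Setup.el, ← Subgroup.coe_mul, ← map_mul]
  congr 2
  exact Subtype.ext (wp_append v w)

theorem Setup.el_cons (k : ℕ) (w : List ℕ) : S.el (k :: w) = S.el [k] * S.el w := S.el_append [k] w

theorem Setup.el_nil : S.el [] = 1 := by
  rw [Setup.el, show (⟨wp [], wp_mem' _⟩ : PG) = 1 from Subtype.ext wp_nil, map_one, Subgroup.coe_one]

theorem Setup.el_eq {v w : List ℕ} : S.el v = S.el w ↔ same v w = true := by
  rw [same_spec]
  refine ⟨fun h => congrArg Subtype.val (S.θ.injective (Subtype.ext h)), fun h => ?_⟩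
  rw [Setup.el, Setup.el, show (⟨wp v, wp_mem' v⟩ : PG) = ⟨wp w, wp_mem' w⟩ from Subtype.ext h]

theorem Setup.el_ne {v w : List ℕ} (h : same v w = false) : S.el v ≠ S.el w := fun e => by
  rw [S.el_eq.1 e] at h; exact Bool.noConfusion h

theorem Setup.el_pw (n : ℕ) (w : List ℕ) : S.el (pw n w) = S.el w ^ n := by
  induction n with
  | zero => rw [pow_zero]; exact S.el_nil
  | succ n ih => rw [pw, List.replicate_succ, List.flatten_cons, S.el_append, ← pw, ih, pow_succ']

theorem Setup.el_a : S.el [0] = z := by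
  rw [Setup.el, show (⟨wp [0], wp_mem' _⟩ : PG) = ⟨gen 0, gen_mem 0⟩ from
    Subtype.ext ((wp_cons 0 []).trans (by rw [wp_nil, mul_one]))]
  exact S.zz

theorem Setup.el_gen_sq (k : ℕ) : S.el [k] * S.el [k] = 1 := by
  rw [← S.el_append, ← S.el_nil]
  refine S.el_eq.2 (same_spec.2 ?_)
  rw [show ([k] ++ [k] : List ℕ) = [k, k] from rfl, wp_cons, wp_cons, wp_nil, mul_one]
  exact rels.2.2.2.2.2.2.2.2 k

theorem Setup.elt : Γ.Elt S.x := elt_of Γ S.θ

/-- elements inverting the five-element centralise its complement -/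
theorem Setup.inv_fix {m : G} (hm : m ∈ Γ.M) (hx : m * S.x * m⁻¹ = S.x⁻¹) :
    five S.x ≤ Subgroup.centralizer ({m} : Set G) := by
  obtain ⟨ht, -, hg⟩ := Γ.mem_M.1 hm
  have hd : Commute S.d m := by
    have h := S.uniq _ (five_conj (Or.inr hx) S.d_five) ?_
    · exact (mul_inv_eq_iff_eq_mul.1 h).symm
    · obtain ⟨h1, h2, h3⟩ := S.refl
      refine ⟨by rw [conj_mul, h1]; group, ?_, ?_⟩
      · rw [show m * S.d * m⁻¹ * Γ.g * (m * S.d * m⁻¹) = m * (S.d * (m⁻¹ * Γ.g * m) * S.d) * m⁻¹ by group,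
          show m⁻¹ * Γ.g * m = Γ.g by rw [mul_assoc, ← hg.eq, inv_mul_cancel_left], h2, hg.inv_right.eq,
          mul_inv_cancel_right]
      · rw [show m * S.d * m⁻¹ * L.t = m * (S.d * (m⁻¹ * L.t * m)) * m⁻¹ by group,
          show m⁻¹ * L.t * m = L.t by rw [mul_assoc, ← ht.eq, inv_mul_cancel_left], conj_pow, h3]
        group
  exact S.elt.gen (Subgroup.mem_centralizer_singleton_iff.2 ht.symm) (Subgroup.mem_centralizer_singleton_iff.2 hg.symm)
    S.d_five (Subgroup.mem_centralizer_singleton_iff.2 hd) (S.elt.d_out S.refl)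

theorem Setup.five_b {c : G} (hc : c ∈ five S.x) : Commute c (S.el [1]) := by
  refine Subgroup.mem_centralizer_singleton_iff.1 (S.inv_fix (S.el_M _) ?_ hc)
  rw [inv_eq_of_mul_eq_one_right (S.el_gen_sq 1), show S.x = S.el [0] * S.el [1] from S.el_cons 0 [1], mul_inv_rev,
    inv_eq_of_mul_eq_one_right (S.el_gen_sq 1), inv_eq_of_mul_eq_one_right (S.el_gen_sq 0), mul_assoc,
    mul_assoc (S.el [0]), S.el_gen_sq, mul_one]

theorem Setup.five_z {c : G} (hc : c ∈ five S.x) : Commute c z := by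
  rw [← S.el_a]
  refine Subgroup.mem_centralizer_singleton_iff.1 (S.inv_fix (S.el_M _) ?_ hc)
  rw [inv_eq_of_mul_eq_one_right (S.el_gen_sq 0), show S.x = S.el [0] * S.el [1] from S.el_cons 0 [1], mul_inv_rev,
    inv_eq_of_mul_eq_one_right (S.el_gen_sq 1), inv_eq_of_mul_eq_one_right (S.el_gen_sq 0), ← mul_assoc,
    S.el_gen_sq, one_mul]

theorem Setup.dz : Commute S.d z := S.five_z S.d_five

theorem vec_eq {a b : G} (ha : a ∈ Q) (hb : b ∈ Q) (h : C.F.vec a = C.F.vec b) : b = a ∨ b = a * z := by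
  have h1 : C.F.vec (a⁻¹ * b) = 0 := by
    have h2 := C.F.vec_mul a ha (a⁻¹ * b) (mul_mem (inv_mem ha) hb)
    rw [mul_inv_cancel_left, ← h] at h2
    exact add_left_cancel (a := C.F.vec a) (by rw [← h2, add_zero])
  rcases (C.F.vec_zero _ (mul_mem (inv_mem ha) hb)).1 h1 with e | e
  · exact Or.inl (inv_mul_eq_one.1 e).symm
  · exact Or.inr (inv_mul_eq_iff_eq_mul.1 e)

theorem vec_pi {c q : G} (hc : Commute c z) (hq : q ∈ Q) : C.F.vec (c * q * c⁻¹) = C.pi c • C.F.vec q :=
  C.vec_conj hc hq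

/-- elements of the core with fixed vectors centralise the complement -/
theorem Setup.fixed_comm {q : G} (hq : q ∈ Q) (ht : C.pi L.t • C.F.vec q = C.F.vec q)
    (hg : C.pi Γ.g • C.F.vec q = C.F.vec q) (hd : C.pi S.d • C.F.vec q = C.F.vec q) :
    five S.x ≤ Subgroup.centralizer ({q} : Set G) := by
  have hz1 : z ≠ 1 := (orderOf_two_iff.1 C.hy.ord).2
  have hzz : z * z = 1 := (orderOf_two_iff.1 C.hy.ord).1
  have hor : ∀ {c : G}, Commute c z → C.pi c • C.F.vec q = C.F.vec q → c * q * c⁻¹ = q ∨ c * q * c⁻¹ = q * z :=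
    fun {c} hc h => vec_eq hq (C.hy.norm c hc q hq) (by rw [vec_pi hc hq, h])
  have hno : ∀ {c : G}, Commute c z → c ^ 3 = 1 → c * q * c⁻¹ ≠ q * z := fun {c} hc h3 e => by
    have e2 : c ^ 3 * q * (c ^ 3)⁻¹ = q * z := by
      calc c ^ 3 * q * (c ^ 3)⁻¹ = c * (c * (c * q * c⁻¹) * c⁻¹) * c⁻¹ := by rw [pow_three]; group
        _ = c * (c * (q * z) * c⁻¹) * c⁻¹ := by rw [e]
        _ = c * (c * q * c⁻¹ * (c * z * c⁻¹)) * c⁻¹ := by group
        _ = c * (q * z * z) * c⁻¹ := by rw [e, hc.eq, mul_inv_cancel_right]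
        _ = q * z := by rw [mul_assoc q, hzz, mul_one, e]
    rw [h3, one_mul, inv_one, mul_one] at e2
    exact hz1 (mul_eq_left.1 e2.symm)
  have hgq : Γ.g * q * Γ.g⁻¹ = q := (hor Γ.gz hg).resolve_right (hno Γ.gz Γ.g3)
  have hgz : ∀ {c : G}, c * q * c⁻¹ = q * z → (Γ.g * c * Γ.g⁻¹) * q * (Γ.g * c * Γ.g⁻¹)⁻¹ = q * z := fun {c} e => by
    calc Γ.g * c * Γ.g⁻¹ * q * (Γ.g * c * Γ.g⁻¹)⁻¹ = Γ.g * (c * (Γ.g⁻¹ * (Γ.g * q * Γ.g⁻¹) * Γ.g) * c⁻¹) * Γ.g⁻¹ := by
          rw [hgq]; group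
      _ = Γ.g * (c * q * c⁻¹) * Γ.g⁻¹ := by group
      _ = Γ.g * q * Γ.g⁻¹ * (Γ.g * z * Γ.g⁻¹) := by rw [e]; group
      _ = q * z := by rw [hgq, Γ.gz.eq, mul_inv_cancel_right]
  have htq : L.t * q * L.t⁻¹ = q := by
    refine (hor L.tz ht).resolve_right fun e => ?_
    have ev := hgz e
    rw [Γ.cyc.1] at ev
    have etv := hgz ev
    rw [Γ.cyc.2] at etv
    have : L.t * L.v * q * (L.t * L.v)⁻¹ = q := by
      calc L.t * L.v * q * (L.t * L.v)⁻¹ = L.t * (L.v * q * L.v⁻¹) * L.t⁻¹ := by group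
        _ = L.t * q * L.t⁻¹ * (L.t * z * L.t⁻¹) := by rw [ev]; group
        _ = q := by rw [e, L.tz.eq, mul_inv_cancel_right, mul_assoc, hzz, mul_one]
    exact hz1 (mul_eq_left.1 (etv.symm.trans this))
  have hdq : S.d * q * S.d⁻¹ = q := by
    refine (hor S.dz hd).resolve_right fun e => hno (S.dz.mul_left L.tz) S.refl.2.2 ?_
    calc S.d * L.t * q * (S.d * L.t)⁻¹ = S.d * (L.t * q * L.t⁻¹) * S.d⁻¹ := by group
      _ = _ := by rw [htq, e]
  exact S.elt.gen (Subgroup.mem_centralizer_singleton_iff.2 (mul_inv_eq_iff_eq_mul.1 htq))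
    (Subgroup.mem_centralizer_singleton_iff.2 (mul_inv_eq_iff_eq_mul.1 hgq))
    S.d_five (Subgroup.mem_centralizer_singleton_iff.2 (mul_inv_eq_iff_eq_mul.1 hdq)) (S.elt.d_out S.refl)

/-- no four singular pairwise perpendicular vectors -/
def fourSingOK : Bool :=
  let S := (List.range 64).filter fun a => Nat.beq (qc a) 0 && !(Nat.beq a 0)
  S.all fun a => (S.filter fun b => Nat.beq (SuzT.Chk.pc a b) 0 && !(Nat.beq a b)).all fun b =>
    ((S.filter fun c => Nat.beq (SuzT.Chk.pc a c) 0 && Nat.beq (SuzT.Chk.pc b c) 0 && !(Nat.beq a c) && !(Nat.beq b c))).all fun c =>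
      S.all fun d => !(Nat.beq (SuzT.Chk.pc a d) 0 && Nat.beq (SuzT.Chk.pc b d) 0 && Nat.beq (SuzT.Chk.pc c d) 0) ||
        Nat.beq a d || Nat.beq b d || Nat.beq c d

theorem four_sing_ok : fourSingOK = true := by decide +kernel

theorem four_singular {a b c d : SuzT.V} (ha : qm a = 0) (hb : qm b = 0) (hc : qm c = 0) (hd : qm d = 0)
    (a0 : a ≠ 0) (b0 : b ≠ 0) (c0 : c ≠ 0) (d0 : d ≠ 0)
    (hab : pol a b = 0) (hac : pol a c = 0) (had : pol a d = 0) (hbc : pol b c = 0) (hbd : pol b d = 0)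
    (hcd : pol c d = 0) : a = b ∨ a = c ∨ b = c ∨ a = d ∨ b = d ∨ c = d := by
  by_contra hne
  simp only [not_or] at hne
  obtain ⟨n1, n2, n3, n4, n5, n6⟩ := hne
  have e0 : ∀ {v : SuzT.V}, v ≠ 0 → enc v ≠ 0 := fun {v} h e => h (enc_injective (e.trans enc_zero.symm))
  have en : ∀ {v w : SuzT.V}, v ≠ w → enc v ≠ enc w := fun h e => h (enc_injective e)
  have nb : ∀ {m n : ℕ}, m ≠ n → Nat.beq m n = false := fun {m n} h =>
    Bool.eq_false_iff.2 fun e => h (Nat.eq_of_beq_eq_true e)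
  have hS : ∀ {v : SuzT.V}, qm v = 0 → v ≠ 0 →
      enc v ∈ (List.range 64).filter fun a => Nat.beq (qc a) 0 && !(Nat.beq a 0) := fun {v} h h0 =>
    List.mem_filter.2 ⟨List.mem_range.2 (enc_lt v), by simp [qm_eq_zero.1 h, nb (e0 h0)]⟩
  have h := List.all_eq_true.1 four_sing_ok _ (hS ha a0)
  have h2 := List.all_eq_true.1 h (enc b) (List.mem_filter.2 ⟨hS hb b0, by simp [pol_eq_zero.1 hab, nb (en n1)]⟩)
  have h3 := List.all_eq_true.1 h2 (enc c) (List.mem_filter.2 ⟨hS hc c0,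
    by simp [pol_eq_zero.1 hac, pol_eq_zero.1 hbc, nb (en n2), nb (en n3)]⟩)
  have h4 := List.all_eq_true.1 h3 (enc d) (hS hd d0)
  simp [pol_eq_zero.1 had, pol_eq_zero.1 hbd, pol_eq_zero.1 hcd, nb (en n4), nb (en n5), nb (en n6)] at h4

theorem pol_nondeg : ∀ t : SuzT.V, (∀ w, pol t w = 0) → t = 0 := by decide +kernel

/-- the fixed vectors of an element -/
def fixV (p : Ga) : AddSubgroup SuzT.V where
  carrier := {v | p • v = v}
  zero_mem' := map_zero (p : OG).1
  add_mem' := fun {v w} hv hw => by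
    show (p : OG).1 (v + w) = v + w
    rw [map_add, show (p : OG).1 v = v from hv, show (p : OG).1 w = w from hw]
  neg_mem' := fun {v} hv => by
    show (p : OG).1 (-v) = -v
    rw [map_neg, show (p : OG).1 v = v from hv]

theorem mem_fixV {p : Ga} {v : SuzT.V} : v ∈ fixV p ↔ p • v = v := Iff.rfl

theorem smul_add' (p : Ga) (v w : SuzT.V) : p • (v + w) = p • v + p • w := map_add (p : OG).1 v w

theorem smul_qm (p : Ga) (v : SuzT.V) : qm (p • v) = qm v := iso_q (p : OG) v

theorem card_V64 : Nat.card SuzT.V = 64 := by rw [Nat.card_eq_fintype_card]; decide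

/-- elements of odd order do not fix a hyperplane -/
theorem fix_le_sixteen {p : Ga} (h3 : p ^ 3 = 1) (h1 : p ≠ 1) : Nat.card (fixV p) ≤ 16 := by
  classical
  by_contra hc
  obtain ⟨i, hi, he⟩ := (Nat.dvd_prime_pow Nat.prime_two).1
    (show Nat.card (fixV p) ∣ 2 ^ 6 by have h := (fixV p).card_addSubgroup_dvd_card; rwa [card_V64] at h)
  have hidx : (fixV p).index ≤ 2 := by
    have h := (fixV p).card_mul_index
    rw [card_V64, he] at h
    rw [he] at hc
    have h5 : 5 ≤ i := by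
      by_contra h5
      exact hc (Nat.pow_le_pow_right (by norm_num) (show i ≤ 4 by omega))
    have h32 : 2 ^ 5 ≤ 2 ^ i := Nat.pow_le_pow_right (by norm_num) h5
    by_contra h2
    have := Nat.mul_le_mul h32 (show 3 ≤ (fixV p).index by omega)
    omega
  have hfix : ∀ v : SuzT.V, p • (p • v + v) = p • v + v := by
    intro v
    refine mem_fixV.1 ?_
    by_contra hn
    have hv : v ∉ fixV p := fun h => hn (by
      rw [mem_fixV.1 h, ZModModule.add_self]; exact zero_mem _)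
    have hpv : p • v ∉ fixV p := fun h => hv (by
      rw [mem_fixV] at h
      have := congrArg (fun w : SuzT.V => p⁻¹ • w) h
      simp only [inv_smul_smul] at this
      exact mem_fixV.2 this)
    haveI : (fixV p).FiniteIndex := inferInstance
    rcases (Nat.le_antisymm hidx (Nat.succ_le_of_lt (lt_of_le_of_ne
      (Nat.one_le_iff_ne_zero.2 AddSubgroup.index_ne_zero_of_finite) fun e => hv
        (AddSubgroup.index_eq_one.1 e.symm ▸ AddSubgroup.mem_top v)))) with h2
    exact hn ((AddSubgroup.add_mem_iff_of_index_two h2).2 (iff_of_false hpv hv))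
  have h2 : ∀ v : SuzT.V, p • (p • v) = v := fun v => by
    have h := hfix v
    rw [smul_add'] at h
    calc p • (p • v) = p • (p • v) + p • v + p • v := by rw [add_assoc, ZModModule.add_self, add_zero]
      _ = p • v + v + p • v := by rw [h]
      _ = v := by rw [add_right_comm, ZModModule.add_self, zero_add]
  have hpp : p * p = 1 := Subtype.ext (Subtype.ext (LinearEquiv.ext fun v => h2 v))
  exact h1 (by rwa [pow_three, hpp, mul_one] at h3)

/-- vectors of a subgroup of the core -/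
noncomputable def vecs (K : Subgroup G) (hK : K ≤ Q) : AddSubgroup SuzT.V where
  carrier := C.F.vec '' (K : Set G)
  zero_mem' := ⟨1, one_mem _, (C.F.vec_zero 1 (one_mem Q)).2 (Or.inl rfl)⟩
  add_mem' := by
    rintro _ _ ⟨a, ha, rfl⟩ ⟨b, hb, rfl⟩
    exact ⟨a * b, mul_mem ha hb, C.F.vec_mul a (hK ha) b (hK hb)⟩
  neg_mem' := by
    rintro _ ⟨a, ha, rfl⟩
    rw [ZModModule.neg_eq_self]
    exact ⟨a, ha, rfl⟩

theorem card_vecs (K : Subgroup G) (hK : K ≤ Q) : Nat.card K ≤ 2 * Nat.card (vecs (C := C) K hK) := by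
  classical
  let f : K → vecs (C := C) K hK × Bool := fun k => (⟨C.F.vec k, k, k.2, rfl⟩,
    decide ((k : G) = Function.invFun (fun a : K => C.F.vec (a : G)) (C.F.vec (k : G))))
  have hf : Function.Injective f := by
    intro a b e
    simp only [f, Prod.mk.injEq, Subtype.mk.injEq] at e
    obtain ⟨e1, e2⟩ := e
    replace e1 : C.F.vec (a : G) = C.F.vec (b : G) := congrArg Subtype.val e1
    set c := Function.invFun (fun a : K => C.F.vec (a : G)) (C.F.vec (a : G)) with hc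
    rw [← e1, ← hc] at e2
    have hcv : C.F.vec (c : G) = C.F.vec (a : G) := Function.invFun_eq (f := fun k : K => C.F.vec (k : G)) ⟨a, rfl⟩
    by_cases h : (a : G) = c
    · rw [decide_eq_true h] at e2
      exact Subtype.ext (h.trans (of_decide_eq_true e2.symm).symm)
    · rw [decide_eq_false h] at e2
      have hb : ¬ (b : G) = c := of_decide_eq_false e2.symm
      refine Subtype.ext ?_
      have h1 := (vec_eq (hK c.2) (hK a.2) hcv).resolve_left h
      have h2 := (vec_eq (hK c.2) (hK b.2) (hcv.trans e1)).resolve_left hb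
      rw [h1, h2]
  have := Nat.card_le_card_of_injective f hf
  rw [Nat.card_prod, show Nat.card Bool = 2 by simp] at this
  omega

/-- the vectors fixed by the complement -/
def Setup.T : AddSubgroup SuzT.V where
  carrier := {v | ∀ c ∈ five S.x, C.pi c • v = v}
  zero_mem' := fun c _ => map_zero (C.pi c : OG).1
  add_mem' := fun {v w} hv hw c hc => by rw [smul_add', hv c hc, hw c hc]
  neg_mem' := fun {v} hv c hc => by rw [ZModModule.neg_eq_self, hv c hc]

theorem Setup.mem_T {v : SuzT.V} (ht : C.pi L.t • v = v) (hg : C.pi Γ.g • v = v) {y : G} (hy : y ∈ five S.x)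
    (hy4 : ¬ Γ.A4 y) (h : C.pi y • v = v) : v ∈ S.T := by
  intro c hc
  let W : Subgroup G :=
    { carrier := {a | Commute a z ∧ C.pi a • v = v}
      one_mem' := ⟨Commute.one_left z, by rw [C.pi_one, one_smul]⟩
      mul_mem' := fun {a b} ha hb => ⟨ha.1.mul_left hb.1, by rw [C.pi_mul ha.1 hb.1, mul_smul, hb.2, ha.2]⟩
      inv_mem' := fun {a} ha => ⟨ha.1.inv_left, by
        rw [C.pi_inv ha.1]
        conv_lhs => rw [← ha.2]
        exact inv_smul_smul _ _⟩ }
  exact (S.elt.gen (W := W) ⟨L.tz, ht⟩ ⟨Γ.gz, hg⟩ hy ⟨S.five_z hy, h⟩ hy4 hc).2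

theorem Setup.four_le_T : 4 ≤ Nat.card S.T := by
  classical
  set K : Subgroup G := Γ.M ⊓ Q with hKdef
  have hK : K ≤ Q := inf_le_right
  set A := vecs (C := C) K hK with hA
  have hA8 : 8 ≤ Nat.card A := by
    have h1 : 16 ≤ Nat.card K := Γ.core_big
    have h2 : Nat.card K ≤ 2 * Nat.card A := card_vecs (C := C) K hK
    omega
  have hAfix : ∀ v ∈ A, C.pi L.t • v = v ∧ C.pi Γ.g • v = v := by
    rintro _ ⟨k, hk, rfl⟩
    obtain ⟨ht, -, hg⟩ := Γ.mem_M.1 (Subgroup.mem_inf.1 hk).1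
    constructor
    · rw [← vec_pi L.tz (hK hk), ← ht.eq, mul_inv_cancel_right]
    · rw [← vec_pi Γ.gz (hK hk), ← hg.eq, mul_inv_cancel_right]
  let p := C.pi S.d
  have hpp : ∀ v : SuzT.V, p • (p • v) = v := fun v => by
    rw [← mul_smul, ← C.pi_mul S.dz S.dz, S.refl.1, C.pi_one, one_smul]
  have hdg : S.d * Γ.g = Γ.g⁻¹ * S.d := by rw [← S.refl.2.1, mul_assoc (S.d * Γ.g), S.refl.1, mul_one]
  have hpfix : ∀ v ∈ A, C.pi Γ.g • (p • v) = p • v := fun v hv => by
    have e : Γ.g * S.d = S.d * Γ.g⁻¹ := by rw [← S.refl.2.1, ← mul_assoc, ← mul_assoc, S.refl.1, one_mul]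
    rw [← mul_smul, ← C.pi_mul Γ.gz S.dz, e, C.pi_mul S.dz Γ.gz.inv_left, mul_smul, C.pi_inv Γ.gz]
    congr 1
    conv_lhs => rw [← (hAfix v hv).2]
    exact inv_smul_smul _ _
  let sum : A × A →+ fixV (C.pi Γ.g) :=
    { toFun := fun a => ⟨(a.1 : SuzT.V) + p • (a.2 : SuzT.V),
        add_mem (mem_fixV.2 (hAfix _ a.1.2).2) (mem_fixV.2 (hpfix _ a.2.2))⟩
      map_zero' := Subtype.ext (by
        show (0 : SuzT.V) + p • (0 : SuzT.V) = 0
        rw [zero_add]; exact map_zero (p : OG).1)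
      map_add' := fun a b => Subtype.ext (by
        show (a.1 : SuzT.V) + b.1 + p • ((a.2 : SuzT.V) + b.2) = (a.1 : SuzT.V) + p • a.2 + (b.1 + p • b.2)
        rw [smul_add']; abel) }
  have h16 : Nat.card (fixV (C.pi Γ.g)) ≤ 16 := by
    refine fix_le_sixteen ?_ fun e => ?_
    · rw [pow_three', ← C.pi_mul Γ.gz Γ.gz, ← C.pi_mul (Γ.gz.mul_left Γ.gz) Γ.gz, ← pow_three', Γ.g3, C.pi_one]
    · have hQ := C.pi_mem Γ.gz e
      have h := Subgroup.orderOf_dvd_natCard _ hQ
      rw [Γ.ord, C.hy.card] at h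
      norm_num at h
  let f : sum.ker → S.T := fun a => ⟨(a.1.1 : SuzT.V), by
    have e : (a.1.1 : SuzT.V) + p • (a.1.2 : SuzT.V) = 0 := congrArg Subtype.val a.2
    have e' : (a.1.1 : SuzT.V) = p • (a.1.2 : SuzT.V) := by
      rw [← add_zero (p • (a.1.2 : SuzT.V)), ← e, add_left_comm, ZModModule.add_self, add_zero]
    refine S.mem_T (hAfix _ a.1.1.2).1 (hAfix _ a.1.1.2).2
      (mul_mem (mul_mem S.d_five (S.elt.V_five L.t_V)) S.d_five) (S.elt.dtd_out S.d_five S.refl) ?_
    rw [e', C.pi_mul (S.dz.mul_left L.tz) S.dz, C.pi_mul S.dz L.tz, mul_smul, mul_smul]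
    show p • (C.pi L.t • (p • (p • (a.1.2 : SuzT.V)))) = _
    rw [hpp, (hAfix _ a.1.2.2).1]⟩
  have hf : Function.Injective f := fun a b e => by
    have e1 : (a.1.1 : SuzT.V) = b.1.1 := congrArg (fun x : S.T => (x : SuzT.V)) e
    have ea : (a.1.1 : SuzT.V) + p • (a.1.2 : SuzT.V) = 0 := congrArg Subtype.val a.2
    have eb : (b.1.1 : SuzT.V) + p • (b.1.2 : SuzT.V) = 0 := congrArg Subtype.val b.2
    rw [e1] at ea
    have e2 := congrArg (fun v => p • v) (add_left_cancel (ea.trans eb.symm))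
    simp only [hpp] at e2
    exact Subtype.ext (Prod.ext (Subtype.ext e1) (Subtype.ext e2))
  have h1 := Nat.card_le_card_of_injective f hf
  have h2 := sum.ker.card_mul_index
  rw [AddSubgroup.index_ker, Nat.card_prod] at h2
  have h3 : Nat.card sum.range ≤ 16 := (AddSubgroup.card_le_card_addGroup _).trans h16
  have h4 := Nat.mul_le_mul hA8 hA8
  by_contra hc
  have h5 := Nat.mul_le_mul (show Nat.card sum.ker ≤ 3 by omega) h3
  omega

theorem Setup.exists_five : ∃ m : G, m ∈ five S.x ∧ orderOf m = 5 := by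
  haveI : Fact (Nat.Prime 5) := ⟨by norm_num⟩
  obtain ⟨⟨m, hm⟩, ho⟩ := exists_prime_orderOf_dvd_card' (G := five S.x) 5 (by rw [S.elt.card]; norm_num)
  exact ⟨m, hm, by rwa [Subgroup.orderOf_mk] at ho⟩

/-- a fixed vector is not singular -/
theorem Setup.exists_nonsing : ∃ v ∈ S.T, qm v = 1 := by
  classical
  by_contra hcon
  have h0 : ∀ v ∈ S.T, qm v = 0 := fun v hv =>
    ((show ∀ b : ZMod 2, b = 0 ∨ b = 1 by decide) (qm v)).resolve_right fun e => hcon ⟨v, hv, e⟩
  have horth : ∀ v ∈ S.T, ∀ w ∈ S.T, pol v w = 0 := fun v hv w hw => by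
    rw [pol, h0 _ (add_mem hv hw), h0 _ hv, h0 _ hw]; rfl
  obtain ⟨m, hm, ho⟩ := S.exists_five
  have hmz := S.five_z hm
  have hp5 : orderOf (C.pi m) = 5 := by rw [C.pi_eq hmz]; exact C.five_pi ho hmz
  set p := C.pi m with hp
  have hTfix : ∀ v ∈ S.T, p • v = v := fun v hv => hv m hm
  have hle : S.T ≤ fixV p := fun v hv => hTfix v hv
  have heq : S.T = fixV p := by
    refine SetLike.coe_injective (Set.eq_of_subset_of_ncard_le hle ?_)
    rw [← Nat.card_coe_set_eq, ← Nat.card_coe_set_eq]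
    exact (fix_le_four hp5).trans S.four_le_T
  obtain ⟨t, ht, ht0⟩ : ∃ t ∈ S.T, t ≠ 0 := by
    by_contra hall
    push Not at hall
    have := S.four_le_T
    rw [(AddSubgroup.eq_bot_iff_forall _).2 hall, AddSubgroup.card_bot] at this
    omega
  refine ht0 (pol_nondeg t fun w => ?_)
  have hp1 : p ^ 5 = 1 := hp5 ▸ pow_orderOf_eq_one p
  have hs : w + p • w + (p ^ 2) • w + (p ^ 3) • w + (p ^ 4) • w ∈ S.T := by
    rw [heq, mem_fixV, smul_add', smul_add', smul_add', smul_add', ← mul_smul, ← mul_smul, ← mul_smul, ← mul_smul,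
      ← pow_succ', ← pow_succ', ← pow_succ', show p * p = p ^ 2 from (pow_two p).symm, hp1, one_smul]
    abel
  have hk : ∀ u : SuzT.V, pol t (p • u + u) = 0 := fun u => by
    rw [pol_add_right, show pol t (p • u) = pol t u by
      conv_lhs => rw [← hTfix t ht]
      exact smul_pol p t u]
    exact ZModModule.add_self _
  have e : w = (w + p • w + (p ^ 2) • w + (p ^ 3) • w + (p ^ 4) • w) + (p • (p • w) + p • w) +
      (p • ((p ^ 3) • w) + (p ^ 3) • w) := by
    rw [← mul_smul, ← mul_smul, ← pow_succ', ← pow_two, show (3 : ℕ) + 1 = 4 from rfl]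
    have h2 : ∀ a : SuzT.V, a + a = 0 := ZModModule.add_self
    calc w = w + ((p • w + p • w) + ((p ^ 2) • w + (p ^ 2) • w) + ((p ^ 3) • w + (p ^ 3) • w) +
          ((p ^ 4) • w + (p ^ 4) • w)) := by simp only [h2, add_zero]
      _ = _ := by abel
  rw [e, pol_add_right, pol_add_right, horth t ht _ hs, hk, hk]
  rfl

/-- the common centraliser -/
noncomputable def Setup.K : Subgroup G :=
  Γ.M ⊓ Subgroup.centralizer ({z} : Set G) ⊓ Subgroup.centralizer ((five S.x : Subgroup G) : Set G)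

theorem Setup.mem_K {k : G} : k ∈ S.K ↔ k ∈ Γ.M ∧ Commute k z ∧ ∀ c ∈ five S.x, Commute c k := by
  rw [Setup.K, Subgroup.mem_inf, Subgroup.mem_inf, Subgroup.mem_centralizer_singleton_iff, Subgroup.mem_centralizer_iff,
    and_assoc]
  rfl

theorem Setup.K_le : Nat.card S.K ≤ 8 := by
  haveI : Fact (Nat.Prime 2) := ⟨Nat.prime_two⟩
  obtain ⟨m, hm, ho⟩ := S.exists_five
  refine C.two_le_eight ho (S.five_z hm) ?_ (fun k hk => (S.mem_K.1 hk).2.1) fun k hk => ((S.mem_K.1 hk).2.2 m hm).symm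
  exact (IsPGroup.of_card (n := 6) Γ.card_Uz).to_le inf_le_left

theorem Setup.core_K {q : G} (hq : q ∈ Q) (hv : C.F.vec q ∈ S.T) : q ∈ S.K := by
  have hfix : ∀ c ∈ five S.x, Commute c q := fun c hc => Subgroup.mem_centralizer_singleton_iff.1
    (S.fixed_comm hq (hv _ (S.elt.V_five L.t_V)) (hv _ S.elt.g_five) (hv _ S.d_five) hc)
  refine S.mem_K.2 ⟨Γ.mem_M.2 ⟨?_, ?_, ?_⟩, Qz C.hy hq, hfix⟩
  exacts [(hfix _ (S.elt.V_five L.t_V)).symm, (hfix _ (S.elt.V_five L.v_V)).symm, (hfix _ S.elt.g_five).symm]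

theorem Setup.K_le_Q {k : G} (hk : k ∈ S.K) : k ∈ Q := by
  classical
  let e : S.T → G := fun v => (C.F.vec_surj v).choose
  have he : ∀ v : S.T, e v ∈ Q ∧ C.F.vec (e v) = v := fun v => (C.F.vec_surj v).choose_spec
  have hz : ∀ {a : G}, a ∈ Q → C.F.vec (a * z) = C.F.vec a := fun {a} ha => by
    rw [C.F.vec_mul a ha z (zQ C.hy), (C.F.vec_zero z (zQ C.hy)).2 (Or.inr rfl), add_zero]
  let f : S.T × Bool → S.K := fun p => ⟨bif p.2 then e p.1 * z else e p.1, by
    cases p.2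
    · show e p.1 ∈ S.K
      exact S.core_K (he p.1).1 (by rw [(he p.1).2]; exact p.1.2)
    · show e p.1 * z ∈ S.K
      exact S.core_K (mul_mem (he p.1).1 (zQ C.hy)) (by rw [hz (he p.1).1, (he p.1).2]; exact p.1.2)⟩
  have hf : Function.Injective f := by
    rintro ⟨v, b⟩ ⟨w, b'⟩ h
    have h' : (bif b then e v * z else e v) = (bif b' then e w * z else e w) := congrArg Subtype.val h
    have hv : ∀ (v : S.T) (b : Bool), C.F.vec (bif b then e v * z else e v) = v := fun v b => by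
      cases b
      · exact (he v).2
      · exact (hz (he v).1).trans (he v).2
    obtain rfl : v = w := Subtype.ext (by rw [← hv v b, ← hv w b', h'])
    rcases b with _ | _ <;> rcases b' with _ | _ <;> first | rfl | skip
    · exact absurd (mul_eq_left.1 h'.symm) (orderOf_two_iff.1 C.hy.ord).2
    · exact absurd (mul_eq_left.1 h') (orderOf_two_iff.1 C.hy.ord).2
  haveI : Fintype S.K := Fintype.ofFinite _
  haveI : Fintype S.T := Fintype.ofFinite _
  have hsur := ((Fintype.bijective_iff_injective_and_card f).2 ⟨hf, le_antisymm (Fintype.card_le_of_injective f hf) (by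
    rw [← Nat.card_eq_fintype_card, ← Nat.card_eq_fintype_card, Nat.card_prod, show Nat.card Bool = 2 by simp]
    have := S.K_le
    have := S.four_le_T
    omega)⟩).2
  obtain ⟨⟨v, b⟩, h⟩ := hsur ⟨k, hk⟩
  rw [show k = (bif b then e v * z else e v) from (congrArg Subtype.val h).symm]
  cases b
  exacts [(he v).1, mul_mem (he v).1 (zQ C.hy)]

/-- the five elements of the complement -/
structure Setup.Five (f g c : List ℕ) : Prop where
  fK : S.el f ∈ S.K
  gK : S.el g ∈ S.K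
  cQ : S.el c ∈ Q
  cd : pol (C.F.vec (S.el c)) (C.pi S.d • C.F.vec (S.el c)) = 1
  rels : relsOK f g c = true

theorem Setup.comm_el {w : List ℕ} (h : commA w = true) : Commute (S.el w) z := by
  have e : S.el (w ++ [0]) = S.el (0 :: w) := S.el_eq.2 (same_spec.2 (same_spec.1 h).symm)
  rw [S.el_append, S.el_cons 0 w, S.el_a] at e
  exact e

theorem Setup.u_enum {u : G} (hu : u ∈ Γ.M) (hz : Commute u z) : ∃ i < 64, S.el (uW.getD i []) = u := by
  classical
  have h := u_ok
  simp only [Bool.and_eq_true, List.all_eq_true, Nat.beq_eq] at h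
  obtain ⟨⟨hall, hnd⟩, hlen⟩ := h
  let K : Subgroup G := Γ.M ⊓ Subgroup.centralizer ({z} : Set G)
  have hget : ∀ i : Fin 64, uW.getD i.val [] ∈ uW := fun i => by
    rw [List.getD_eq_getElem _ _ (show i.val < uW.length by omega)]; exact List.getElem_mem _
  let f : Fin 64 → K := fun i => ⟨S.el (uW.getD i.val []), S.el_M _,
    Subgroup.mem_centralizer_singleton_iff.2 (S.comm_el (hall _ (hget i)))⟩
  have hf : Function.Injective f := fun i j e => by
    have e0 : S.el (uW.getD i.val []) = S.el (uW.getD j.val []) := (congrArg Subtype.val e :)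
    have e' := same_spec.1 (S.el_eq.1 e0)
    have hn := nodupB_spec hnd
    rw [List.getD_eq_getElem _ _ (show i.val < uW.length by omega), List.getD_eq_getElem _ _ (show j.val < uW.length by omega)] at e'
    exact Fin.ext ((List.Nodup.getElem_inj_iff hn (hi := by simp [hlen]) (hj := by simp [hlen])).1
      (by rw [List.getElem_map, List.getElem_map]; exact e'))
  haveI : Fintype K := Fintype.ofFinite _
  have hsur := ((Fintype.bijective_iff_injective_and_card f).2 ⟨hf, by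
    rw [Fintype.card_fin, ← Nat.card_eq_fintype_card]; exact Γ.card_Uz.symm⟩).2
  obtain ⟨i, hi⟩ := hsur ⟨u, hu, Subgroup.mem_centralizer_singleton_iff.2 hz⟩
  exact ⟨i, i.2, congrArg Subtype.val hi⟩

theorem Setup.subst_K (v : List (List ℕ)) (hv : ∀ x, x < 3 → ∀ c ∈ five S.x, Commute c (S.el (v.getD x [])))
    {w : List ℕ} (hw : three w = true) : ∀ c ∈ five S.x, Commute c (S.el (subst v w)) := by
  induction w with
  | nil =>
    intro c _
    rw [show subst v [] = [] from rfl, S.el_nil]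
    exact Commute.one_right c
  | cons x w ih =>
    intro c hc
    simp only [three, List.all_cons, Bool.and_eq_true] at hw
    rw [show subst v (x :: w) = v.getD x [] ++ subst v w by simp [subst], S.el_append]
    exact (hv x (Nat.le_of_ble_eq_true hw.1) c hc).mul_right (ih hw.2 c hc)

theorem Setup.exists_fgc : ∃ f g c, S.Five f g c := by
  classical
  have hz1 : z ≠ 1 := (orderOf_two_iff.1 C.hy.ord).2
  obtain ⟨v0, hv0, hq0⟩ := S.exists_nonsing
  obtain ⟨s, hsQ, rfl⟩ := C.F.vec_surj v0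
  have hsK := S.core_K hsQ hv0
  have hss : s * s = z := (C.F.sq_or s hsQ).resolve_left fun e => by
    rw [(C.F.sq_iff s hsQ).1 e] at hq0; exact zero_ne_one hq0
  obtain ⟨hsM, hsz, hsX⟩ := S.mem_K.1 hsK
  obtain ⟨i, hi, rfl⟩ := S.u_enum hsM hsz
  have hsame : same (uW.getD i [] ++ uW.getD i []) [0] = true := S.el_eq.1 (by rw [S.el_append, S.el_a]; exact hss)
  have h := List.all_eq_true.1 sq_ok i (List.mem_range.2 hi)
  rw [hsame, Bool.not_true, Bool.false_or, List.any_eq_true] at h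
  obtain ⟨⟨i', W⟩, -, hp⟩ := h
  simp only [Bool.and_eq_true, Nat.beq_eq] at hp
  obtain ⟨rfl, hcase⟩ := hp
  have hlet : ∀ x, x < 3 → ∀ c ∈ five S.x, Commute c (S.el ([[0], [1], uW.getD i' []].getD x [])) := by
    intro x hx c hc
    interval_cases x
    · show Commute c (S.el [0])
      rw [S.el_a]; exact S.five_z hc
    · exact S.five_b hc
    · exact hsX c hc
  rcases W with W | ⟨k, wf, wg⟩
  · exfalso
    simp only [caseOK, Bool.and_eq_true, Nat.beq_eq, List.all_eq_true] at hcase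
    obtain ⟨⟨⟨hlen, h3⟩, hnd⟩, hcomm⟩ := hcase
    let F : Fin W.length → S.K := fun j => ⟨S.el (subst [[0], [1], uW.getD i' []] (W.get j)),
      S.mem_K.2 ⟨S.el_M _, S.comm_el (hcomm _ (List.get_mem _ _)), S.subst_K _ hlet (h3 _ (List.get_mem _ _))⟩⟩
    have hF : Function.Injective F := fun a b e => by
      have e0 : S.el (subst [[0], [1], uW.getD i' []] (W.get a)) = S.el (subst [[0], [1], uW.getD i' []] (W.get b)) := (congrArg Subtype.val e :)
      have e' := same_spec.1 (S.el_eq.1 e0)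
      exact Fin.ext ((List.Nodup.getElem_inj_iff (nodupB_spec hnd) (hi := by simp) (hj := by simp)).1
        (by simpa using e'))
    have := Nat.card_le_card_of_injective F hF
    rw [Nat.card_fin, hlen] at this
    have := S.K_le
    omega
  simp only [caseOK, Bool.and_eq_true] at hcase
  obtain ⟨⟨⟨⟨hk, h3f⟩, h3g⟩, hsf⟩, hsg⟩ := hcase
  have hk' : k < 3 := Nat.le_of_ble_eq_true hk
  have htrip := List.all_eq_true.1 trip_ok k (List.mem_range.2 hk')
  simp only [Bool.and_eq_true] at htrip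
  obtain ⟨⟨hrels, hfour⟩, height⟩ := htrip
  set f := (tripW.getD k ([], [], [])).1
  set g := (tripW.getD k ([], [], [])).2.1
  set c := (tripW.getD k ([], [], [])).2.2
  have hr := hrels
  simp only [relsOK, Bool.and_eq_true, Bool.not_eq_true'] at hr
  obtain ⟨⟨⟨⟨⟨⟨⟨⟨⟨⟨⟨⟨⟨⟨⟨⟨⟨rff, rgg⟩, rcc⟩, -⟩, -⟩, -⟩, -⟩, rcf⟩, rcg⟩, raf⟩, rag⟩, rac⟩, -⟩, -⟩, rc1⟩, rca⟩, -⟩, -⟩ := hr
  have hfK : S.el f ∈ S.K := S.mem_K.2 ⟨S.el_M _, S.comm_el raf, fun y hy => by
    rw [← S.el_eq.2 hsf]; exact S.subst_K _ hlet h3f y hy⟩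
  have hgK : S.el g ∈ S.K := S.mem_K.2 ⟨S.el_M _, S.comm_el rag, fun y hy => by
    rw [← S.el_eq.2 hsg]; exact S.subst_K _ hlet h3g y hy⟩
  simp only [eightOK, Bool.and_eq_true, Nat.beq_eq, List.all_eq_true, Bool.not_eq_true'] at height
  obtain ⟨⟨⟨hlen, he3⟩, hend⟩, hec⟩ := height
  have hlet' : ∀ x, x < 3 → ∀ y ∈ five S.x, Commute y (S.el ([[0], f, g].getD x [])) := by
    intro x hx y hy
    interval_cases x
    · show Commute y (S.el [0])
      rw [S.el_a]; exact S.five_z hy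
    · exact (S.mem_K.1 hfK).2.2 y hy
    · exact (S.mem_K.1 hgK).2.2 y hy
  set E := eightW.getD k []
  let F : Fin E.length → S.K := fun j => ⟨S.el (subst [[0], f, g] (E.get j)),
    S.mem_K.2 ⟨S.el_M _, S.comm_el (hec _ (List.get_mem _ _)).2, S.subst_K _ hlet' (he3 _ (List.get_mem _ _))⟩⟩
  have hF : Function.Injective F := fun a b e => by
    have e0 : S.el (subst [[0], f, g] (E.get a)) = S.el (subst [[0], f, g] (E.get b)) := (congrArg Subtype.val e :)
    have e' := same_spec.1 (S.el_eq.1 e0)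
    exact Fin.ext ((List.Nodup.getElem_inj_iff (nodupB_spec hend) (hi := by simp) (hj := by simp)).1
      (by simpa using e'))
  have hcnK : S.el c ∉ S.K := fun hcK => by
    haveI : Fintype S.K := Fintype.ofFinite _
    have hsur := ((Fintype.bijective_iff_injective_and_card F).2 ⟨hF, le_antisymm (Fintype.card_le_of_injective F hF) (by
      rw [Fintype.card_fin, hlen, ← Nat.card_eq_fintype_card]; exact S.K_le)⟩).2
    obtain ⟨j, hj⟩ := hsur ⟨_, hcK⟩
    have e0 : S.el (subst [[0], f, g] (E.get j)) = S.el c := (congrArg Subtype.val hj :)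
    have := S.el_eq.1 e0
    rw [(hec _ (List.get_mem _ _)).1] at this
    exact Bool.noConfusion this
  -- the third element lies in the core
  have hcQ : S.el c ∈ Q := by
    set K : Subgroup G := Γ.M ⊓ Q with hKdef
    let φ : K → ZMod 2 × ZMod 2 := fun a =>
      (pol (C.F.vec (a : G)) (C.F.vec (S.el f)), pol (C.F.vec (a : G)) (C.F.vec (S.el g)))
    haveI : Fintype K := Fintype.ofFinite _
    obtain ⟨y, hy⟩ := Fintype.exists_le_card_fiber_of_mul_le_card φ (n := 4) (by
      rw [Fintype.card_prod, ZMod.card, ← Nat.card_eq_fintype_card]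
      exact Γ.core_big)
    by_contra hcn
    obtain ⟨a, ha⟩ : ∃ a, φ a = y := by
      obtain ⟨a, ha⟩ := Finset.card_pos.1 (lt_of_lt_of_le (by norm_num : 0 < 4) hy)
      exact ⟨a, (Finset.mem_filter.1 ha).2⟩
    have hsub : ((Finset.univ.filter fun b => φ b = y).image fun b : K => (a : G)⁻¹ * b) ⊆ {1, z} := by
      intro q hq
      obtain ⟨b, hb, rfl⟩ := Finset.mem_image.1 hq
      have hby : φ b = φ a := (Finset.mem_filter.1 hb).2.trans ha.symm
      have habK : (a : G)⁻¹ * b ∈ K := mul_mem (inv_mem a.2) b.2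
      obtain ⟨habM, habQ⟩ := Subgroup.mem_inf.1 habK
      have hcomm : ∀ {w : List ℕ}, S.el w ∈ Q → pol (C.F.vec (a : G)) (C.F.vec (S.el w)) =
          pol (C.F.vec (b : G)) (C.F.vec (S.el w)) → Commute ((a : G)⁻¹ * b) (S.el w) := fun {w} hw e => by
        refine (C.F.comm_iff _ habQ _ hw).2 ?_
        have h2 := C.F.vec_mul (a : G) (Subgroup.mem_inf.1 a.2).2 _ habQ
        rw [mul_inv_cancel_left] at h2
        rw [h2, pol_add_left] at e
        exact add_left_cancel (e.symm.trans (add_zero _).symm)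
      have hcf := hcomm (S.K_le_Q hfK) (congrArg Prod.fst hby).symm
      have hcg := hcomm (S.K_le_Q hgK) (congrArg Prod.snd hby).symm
      obtain ⟨j, hj, hje⟩ := S.u_enum habM (Qz C.hy habQ)
      have hju : uW.getD j [] ∈ uW := by
        have hl : uW.length = 64 := by
          have h := u_ok; simp only [Bool.and_eq_true, Nat.beq_eq] at h; exact h.2
        rw [List.getD_eq_getElem _ _ (hl ▸ hj)]; exact List.getElem_mem _
      have h4 := List.all_eq_true.1 hfour _ hju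
      rw [← hje] at hcf hcg habQ ⊢
      rw [show same (uW.getD j [] ++ f) (f ++ uW.getD j []) = true from S.el_eq.1 (by
          rw [S.el_append, S.el_append]; exact hcf.eq),
        show same (uW.getD j [] ++ g) (g ++ uW.getD j []) = true from S.el_eq.1 (by
          rw [S.el_append, S.el_append]; exact hcg.eq)] at h4
      simp only [Bool.and_self, Bool.not_true, Bool.false_or, Bool.or_eq_true] at h4
      simp only [Finset.mem_insert, Finset.mem_singleton]
      rcases h4 with ((e | e) | e) | e <;> have e' := S.el_eq.2 e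
      · exact Or.inl (e'.trans S.el_nil)
      · exact Or.inr (e'.trans S.el_a)
      · exact absurd (e' ▸ habQ) hcn
      · refine absurd ?_ hcn
        rw [e', S.el_append, S.el_a] at habQ
        exact (Subgroup.mul_mem_cancel_left _ (zQ C.hy)).1 habQ
    have hle := Finset.card_le_card hsub
    rw [Finset.card_image_of_injective _ (fun p q e => Subtype.ext (mul_left_cancel e))] at hle
    have : ({1, z} : Finset G).card ≤ 2 := Finset.card_le_two
    omega
  refine ⟨f, g, c, hfK, hgK, hcQ, ?_, hrels⟩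
  refine ((show ∀ b : ZMod 2, b = 0 ∨ b = 1 by decide) _).resolve_left fun hpol => hcnK ?_
  obtain ⟨hct, hcv, hcg'⟩ := Γ.mem_M.1 (S.el_M c)
  set w := C.F.vec (S.el c) with hw
  have hfix : ∀ {y : G}, Commute y z → Commute (S.el c) y → C.pi y • w = w := fun {y} hyz h => by
    rw [hw, ← vec_pi hyz hcQ, ← h.eq, mul_inv_cancel_right]
  have hwt := hfix L.tz hct
  have hwg := hfix Γ.gz hcg'
  have hvz : Commute L.v z := Γ.cyc.1 ▸ (Γ.gz.mul_left L.tz).mul_left Γ.gz.inv_left
  have htvz : Commute (L.t * L.v) z := L.tz.mul_left hvz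
  have hwv := hfix hvz hcv
  have hwtv := hfix htvz (hct.mul_right hcv)
  refine S.core_K hcQ ?_
  by_contra hnT
  have hwd : C.pi S.d • w ≠ w := fun e =>
    hnT (S.mem_T hwt hwg S.d_five (S.elt.d_out S.refl) e)
  have hdt : C.pi (S.d * L.t * S.d) • w ≠ w := fun e =>
    hnT (S.mem_T hwt hwg (mul_mem (mul_mem S.d_five (S.elt.V_five L.t_V)) S.d_five) (S.elt.dtd_out S.d_five S.refl) e)
  set p := C.pi S.d with hp
  have hpp : ∀ v : SuzT.V, p • (p • v) = v := fun v => by
    rw [← mul_smul, ← C.pi_mul S.dz S.dz, S.refl.1, C.pi_one, one_smul]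
  set q := C.pi L.t with hq
  set r := C.pi L.v with hr
  set u := p • w with hu
  have hγu : C.pi Γ.g • u = u := by
    have e : Γ.g * S.d = S.d * Γ.g⁻¹ := by rw [← S.refl.2.1, ← mul_assoc, ← mul_assoc, S.refl.1, one_mul]
    rw [hu, ← mul_smul, ← C.pi_mul Γ.gz S.dz, e, C.pi_mul S.dz Γ.gz.inv_left, mul_smul, C.pi_inv Γ.gz]
    congr 1
    conv_lhs => rw [← hwg]
    exact inv_smul_smul _ _
  have hconj : ∀ {y y' : G}, Commute y z → Γ.g * y * Γ.g⁻¹ = y' → C.pi y' • u = C.pi Γ.g • (C.pi y • u) := by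
    intro y y' hy e
    rw [← e, C.pi_mul (Γ.gz.mul_left hy) Γ.gz.inv_left, C.pi_mul Γ.gz hy, C.pi_inv Γ.gz, mul_smul, mul_smul]
    conv_lhs => rw [← hγu, inv_smul_smul]
  have hdt' : q • u ≠ u := fun e => hdt (by
    rw [C.pi_mul (S.dz.mul_left L.tz) S.dz, C.pi_mul S.dz L.tz, mul_smul, mul_smul]
    show p • (q • u) = w
    rw [e, hu, hpp])
  have hdv' : r • u ≠ u := fun e => hdt' (by
    have e2 := hconj hvz Γ.cyc.2
    rw [e, hγu] at e2
    have e3 := hconj htvz Γ.cyc.tv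
    rw [e2, hγu] at e3
    exact e3)
  have hdtv : C.pi (L.t * L.v) • u ≠ u := fun e => hdt' (by
    have e3 := hconj htvz Γ.cyc.tv
    rw [e, hγu] at e3
    exact e3)
  have hw0 : qm w = 0 := (C.F.sq_iff _ hcQ).1 (by rw [← S.el_append, ← S.el_nil]; exact S.el_eq.2 rcc)
  have hwne : w ≠ 0 := fun e => by
    rcases (C.F.vec_zero _ hcQ).1 e with e' | e'
    · exact absurd (S.el_eq.1 (e'.trans S.el_nil.symm)) (by simp [rc1])
    · exact absurd (S.el_eq.1 (e'.trans S.el_a.symm)) (by simp [rca])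
  have hne : ∀ (a : Ga) {v : SuzT.V}, v ≠ 0 → a • v ≠ 0 := fun a v h e => h (by
    rw [← inv_smul_smul a v, e]; exact map_zero (a⁻¹ : Ga).1.1)
  have huu : pol u (q • u) = 0 := by
    have e : S.d * L.t * S.d = L.t * S.d * L.t := by
      have h3 := S.refl.2.2
      rw [pow_three] at h3
      have hd' : S.d⁻¹ = S.d := inv_eq_of_mul_eq_one_right S.refl.1
      have ht' : L.t⁻¹ = L.t := inv_eq_of_mul_eq_one_right L.sq
      calc S.d * L.t * S.d = S.d * L.t * (S.d * L.t * (S.d * L.t)) * L.t⁻¹ * S.d⁻¹ * L.t⁻¹ := by group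
        _ = _ := by rw [h3, hd', ht', one_mul]
    calc pol u (q • u) = pol (p • u) (p • (q • u)) := (smul_pol p _ _).symm
      _ = pol w (C.pi (S.d * L.t * S.d) • w) := by
        rw [hu, hpp, C.pi_mul (S.dz.mul_left L.tz) S.dz, C.pi_mul S.dz L.tz, mul_smul, mul_smul]
      _ = pol (q • w) (q • (p • w)) := by
        rw [e, C.pi_mul (L.tz.mul_left S.dz) L.tz, C.pi_mul L.tz S.dz, mul_smul, mul_smul, hwt]
      _ = 0 := by rw [smul_pol]; exact hpol
  have huv : pol u (r • u) = 0 := by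
    rw [show r • u = C.pi Γ.g • (q • u) from hconj L.tz Γ.cyc.1]
    nth_rw 1 [← hγu]
    rw [smul_pol]
    exact huu
  have hutv : pol u (C.pi (L.t * L.v) • u) = 0 := by
    rw [hconj hvz Γ.cyc.2]
    nth_rw 1 [← hγu]
    rw [smul_pol]
    exact huv
  have htv : pol (q • u) (r • u) = 0 := by
    have e : q • (C.pi (L.t * L.v) • u) = r • u := by
      rw [hq, ← mul_smul, ← C.pi_mul L.tz htvz, ← mul_assoc, L.sq, one_mul]
    rw [← e, smul_pol]
    exact hutv
  have hwq : pol w (q • u) = 0 := by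
    conv_lhs => rw [← hwt]
    rw [smul_pol]; exact hpol
  have hwr : pol w (r • u) = 0 := by
    conv_lhs => rw [← hwv]
    rw [smul_pol]; exact hpol
  have hqe : ∀ (a : Ga), qm (a • u) = 0 := fun a => by rw [smul_qm, smul_qm, hw0]
  rcases four_singular hw0 (by rw [smul_qm, hw0]) (hqe q) (hqe r) hwne (hne p hwne) (hne q (hne p hwne))
    (hne r (hne p hwne)) hpol hwq hwr huu huv htv with e | e | e | e | e | e
  · exact hwd e.symm
  · refine hwd ?_
    have := congrArg (fun v => q • v) e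
    simp only [← mul_smul] at this
    rw [hwt, ← C.pi_mul L.tz L.tz, L.sq, C.pi_one, one_smul] at this
    exact this.symm
  · exact hdt' e.symm
  · refine hwd ?_
    have := congrArg (fun v => r • v) e
    simp only [← mul_smul] at this
    rw [hwv, ← C.pi_mul hvz hvz, L.v_sq, C.pi_one, one_smul] at this
    exact this.symm
  · exact hdv' e.symm
  · refine hdtv ?_
    have := congrArg (fun v => q • v) e.symm
    simp only [← mul_smul] at this
    rw [← C.pi_mul L.tz hvz, ← C.pi_mul L.tz L.tz, L.sq, C.pi_one, one_smul] at this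
    exact this

end Cfsg.Agent.Spor.SuzAmal
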