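import Cfsg.Agent.Lib.Spor.SuzAmal.ModelData

/-!
Five generators of the linear group of dimension three over the field with four elements on the points of
the plane, with searches inside the centraliser of an involution.
-/

set_option autoImplicit false
set_option maxRecDepth 100000

namespace Cfsg.Agent.Spor.SuzAmal

open Cfsg.Agent.Spor.PlaneAut Cfsg.Agent.Spor.PlaneFour

/-- image of a point under a generator -/
def img (k : ℕ) (i : Fin 21) : Fin 21 := (genT.getD k []).getD i.val i

theorem img_img : ∀ k < 5, ∀ i, img k (img k i) = i := by decide +kernel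

theorem img_big {k : ℕ} (h : ¬ k < 5) (i : Fin 21) : img k i = i := by
  rw [img, List.getD_eq_default genT _ (by simp [genT]; omega)]
  simp

/-- a generator as a permutation -/
def gen (k : ℕ) : Equiv.Perm (Fin 21) :=
  ⟨img k, img k, fun i => if h : k < 5 then img_img k h i else by rw [img_big h, img_big h],
    fun i => if h : k < 5 then img_img k h i else by rw [img_big h, img_big h]⟩

/-- the value of a word on a point -/
def app (w : List ℕ) (i : Fin 21) : Fin 21 := w.foldr img i

/-- a word as a list of images -/
def row (w : List ℕ) : List ℕ := (List.finRange 21).map fun i => (app w i).val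

/-- a word as a permutation -/
def wp (w : List ℕ) : Equiv.Perm (Fin 21) := (w.map gen).prod

theorem wp_apply (w : List ℕ) (i : Fin 21) : wp w i = app w i := by
  induction w with
  | nil => rfl
  | cons x w ih =>
    show (gen x * wp w) i = img x (app w i)
    rw [Equiv.Perm.mul_apply, ih]
    rfl

theorem row_iff {v w : List ℕ} : row v = row w ↔ wp v = wp w := by
  constructor
  · intro h
    refine Equiv.ext fun i => Fin.ext ?_
    rw [wp_apply, wp_apply]
    have := List.map_inj_left.mp h i (List.mem_finRange i)
    exact this
  · intro h
    refine List.map_congr_left fun i _ => ?_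
    rw [← wp_apply, ← wp_apply, h]

theorem wp_append (v w : List ℕ) : wp (v ++ w) = wp v * wp w := by rw [wp, List.map_append, List.prod_append]; rfl

/-- equality of two words -/
def same (v w : List ℕ) : Bool := row v == row w

theorem same_spec {v w : List ℕ} : same v w = true ↔ wp v = wp w := by rw [same, beq_iff_eq, row_iff]

/-- a power of a word -/
def pw (n : ℕ) (w : List ℕ) : List ℕ := (List.replicate n w).flatten

theorem wp_pw (n : ℕ) (w : List ℕ) : wp (pw n w) = wp w ^ n := by
  induction n with
  | zero => rfl
  | succ n ih => rw [pw, List.replicate_succ, List.flatten_cons, wp_append, pow_succ', ← pw, ih]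

/-- the lines of the model in a fixed order -/
def lineOf (j : Fin 21) : Finset P21 :=
  if h : j.val < 15 then secant ⟨j.val, h⟩ else external ⟨j.val - 15, by omega⟩

theorem lineOf_mem (j : Fin 21) : lineOf j ∈ lines := by
  unfold lineOf lines
  split
  · exact Finset.mem_union_left _ (Finset.mem_image_of_mem _ (Finset.mem_univ _))
  · exact Finset.mem_union_right _ (Finset.mem_image_of_mem _ (Finset.mem_univ _))

theorem mem_lineOf {l : Finset P21} (h : l ∈ lines) : ∃ j, lineOf j = l := by
  rcases Finset.mem_union.mp h with h | h <;> obtain ⟨d, -, rfl⟩ := Finset.mem_image.mp h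
  · exact ⟨⟨d.val, by omega⟩, by rw [lineOf, dif_pos (show d.val < 15 from d.2)]⟩
  · refine ⟨⟨15 + d.val, by omega⟩, ?_⟩
    rw [lineOf, dif_neg (show ¬ 15 + d.val < 15 by omega)]
    exact congrArg external (Fin.ext (by simp))

/-- the code of a point -/
def code : P21 → Fin 21
  | .inl i => ⟨i.val, by omega⟩
  | .inr i => ⟨6 + i.val, by omega⟩

/-- the point of a code -/
def point (i : Fin 21) : P21 := if h : i.val < 6 then .inl ⟨i.val, h⟩ else .inr ⟨i.val - 6, by omega⟩

theorem point_code : ∀ x, point (code x) = x := by decide +kernel

theorem code_point : ∀ i, code (point i) = i := by decide +kernel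

/-- the points of a line as a sorted list -/
def lineCodes (j : Fin 21) : List (Fin 21) := (List.finRange 21).filter fun i => decide (point i ∈ lineOf j)

theorem gen_lines_tab : ((List.finRange 21).all fun j => (List.range 5).all fun k =>
    (lineCodes j).all fun i => decide (point (img k i) ∈ lineOf ((lineT.getD k []).getD j.val j))) = true := by
  decide +kernel

theorem card_lineOf (j : Fin 21) : (lineOf j).card = 5 := by
  unfold lineOf
  split
  exacts [card_secant _, card_external _]

/-- the generators keep the lines -/
theorem gen_lines {k : ℕ} (hk : k < 5) {l : Finset P21} (hl : l ∈ lines) :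
    l.image (fun x => point (img k (code x))) ∈ lines := by
  obtain ⟨j, rfl⟩ := mem_lineOf hl
  have h := List.all_eq_true.mp (List.all_eq_true.mp gen_lines_tab j (List.mem_finRange j)) k (List.mem_range.mpr hk)
  have he : (lineOf j).image (fun x => point (img k (code x))) = lineOf ((lineT.getD k []).getD j.val j) := by
    refine Finset.eq_of_subset_of_card_le (fun y hy => ?_) ?_
    · obtain ⟨x, hx, rfl⟩ := Finset.mem_image.mp hy
      exact of_decide_eq_true (List.all_eq_true.mp h (code x)
        (List.mem_filter.mpr ⟨List.mem_finRange _, decide_eq_true (by rw [point_code]; exact hx)⟩))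
    · rw [Finset.card_image_of_injective, card_lineOf, card_lineOf]
      intro x y e
      have e1 := congrArg code e
      rw [code_point, code_point] at e1
      have e2 := congrArg (img k) e1
      rw [img_img k hk, img_img k hk] at e2
      simpa [point_code] using congrArg point e2
  rw [he]
  exact lineOf_mem _

/-- no repetitions -/
def nodupB : List (List ℕ) → Bool
  | [] => true
  | x :: l => l.all (fun y => !(same x y)) && nodupB l

theorem nodupB_spec : ∀ {l : List (List ℕ)}, nodupB l = true → (l.map wp).Nodup
  | [], _ => List.nodup_nil
  | x :: l, h => by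
    simp only [nodupB, Bool.and_eq_true, List.all_eq_true, Bool.not_eq_true'] at h
    refine List.nodup_cons.mpr ⟨fun hx => ?_, nodupB_spec h.2⟩
    obtain ⟨y, hy, e⟩ := List.mem_map.mp hx
    have := h.1 y hy
    rw [same_spec.mpr e.symm] at this
    exact Bool.noConfusion this

/-- commuting with the first generator -/
def commA (w : List ℕ) : Bool := same (0 :: w) (w ++ [0])

theorem commA_spec {w : List ℕ} : commA w = true ↔ Commute (gen 0) (wp w) := by
  rw [commA, same_spec, wp_append]
  show wp ([0] ++ w) = _ ↔ _
  rw [wp_append]
  show wp [0] * wp w = wp w * wp [0] ↔ _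
  rw [show wp [0] = gen 0 by simp [wp]]
  exact Iff.rfl

theorem u_ok : (uW.all commA && nodupB uW && Nat.beq uW.length 64) = true := by decide +kernel

/-- the candidate group relations -/
def relsOK (f g c : List ℕ) : Bool :=
  same (f ++ f) [] && same (g ++ g) [] && same (c ++ c) [] && same (pw 2 (f ++ g)) [0] &&
    same (pw 3 ([1] ++ f)) [] && same (pw 3 ([1] ++ g)) [] && same (pw 3 ([1] ++ c)) [] &&
    same (c ++ f) (f ++ c) && same (c ++ g) (g ++ c) && commA f && commA g && commA c &&
    same (pw 5 ([0, 1] ++ c ++ f)) [] && same (pw 5 ([1] ++ f ++ g)) [] &&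
    !(same c []) && !(same c [0]) && !(same ([0, 1]) []) && same (pw 5 [0, 1]) []

/-- the centraliser of the last two inside that of the first has order four -/
def fourOK (f g c : List ℕ) : Bool :=
  uW.all fun u => !(same (u ++ f) (f ++ u) && same (u ++ g) (g ++ u)) ||
    same u [] || same u [0] || same u c || same u ([0] ++ c)

/-- substituting words for letters -/
def subst (v : List (List ℕ)) (w : List ℕ) : List ℕ := (w.map fun x => v.getD x []).flatten

theorem wp_subst (v : List (List ℕ)) (w : List ℕ) : wp (subst v w) = (w.map fun x => wp (v.getD x [])).prod := by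
  induction w with
  | nil => rfl
  | cons x w ih =>
    rw [subst, List.map_cons, List.flatten_cons, wp_append, List.map_cons, List.prod_cons, ← subst, ih]

/-- a letter word uses only three letters -/
def three (w : List ℕ) : Bool := w.all fun x => Nat.blt x 3

/-- the eight elements generated by a, f, g -/
def eightOK (f g c : List ℕ) (e : List (List ℕ)) : Bool :=
  Nat.beq e.length 8 && e.all three && nodupB (e.map (subst [[0], f, g])) &&
    e.all (fun w => !(same (subst [[0], f, g] w) c) && commA (subst [[0], f, g] w))

theorem trip_ok : ((List.range 3).all fun k =>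
    relsOK (tripW.getD k ([], [], [])).1 (tripW.getD k ([], [], [])).2.1 (tripW.getD k ([], [], [])).2.2 &&
    fourOK (tripW.getD k ([], [], [])).1 (tripW.getD k ([], [], [])).2.1 (tripW.getD k ([], [], [])).2.2 &&
    eightOK (tripW.getD k ([], [], [])).1 (tripW.getD k ([], [], [])).2.1 (tripW.getD k ([], [], [])).2.2
      (eightW.getD k [])) = true := by decide +kernel

/-- one case of the search -/
def caseOK (i : ℕ) : (List (List ℕ) ⊕ (ℕ × List ℕ × List ℕ)) → Bool
  | .inl W => Nat.beq W.length 9 && W.all three && nodupB (W.map (subst [[0], [1], uW.getD i []])) &&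
      W.all fun w => commA (subst [[0], [1], uW.getD i []] w)
  | .inr (k, wf, wg) => Nat.blt k 3 && three wf && three wg &&
      same (subst [[0], [1], uW.getD i []] wf) (tripW.getD k ([], [], [])).1 &&
      same (subst [[0], [1], uW.getD i []] wg) (tripW.getD k ([], [], [])).2.1

theorem sq_ok : ((List.range 64).all fun i => !(same (uW.getD i [] ++ uW.getD i []) [0]) ||
    sqW.any fun p => Nat.beq p.1 i && caseOK i p.2) = true := by decide +kernel

end Cfsg.Agent.Spor.SuzAmal
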