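import Cfsg.Agent.Lib.Spor.PlaneAut

/-!
Data: generators of the linear group on the plane of order four and searches inside the centraliser of an involution.
-/

set_option autoImplicit false

namespace Cfsg.Agent.Spor.SuzAmal

/-- the five generators on twenty-one points -/
def genT : List (List (Fin 21)) :=
  [[0, 1, 5, 4, 3, 2, 6, 7, 8, 20, 19, 18, 17, 16, 15, 14, 13, 12, 11, 10, 9],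
   [0, 2, 1, 5, 4, 3, 11, 10, 9, 8, 7, 6, 18, 19, 20, 15, 16, 17, 12, 13, 14],
   [0, 1, 16, 18, 11, 13, 6, 7, 8, 15, 17, 4, 19, 5, 20, 9, 2, 10, 3, 12, 14],
   [0, 1, 4, 5, 2, 3, 6, 7, 8, 17, 15, 16, 20, 18, 19, 10, 11, 9, 13, 14, 12],
   [1, 0, 2, 4, 3, 5, 7, 6, 8, 15, 12, 18, 10, 13, 20, 9, 16, 19, 11, 17, 14]]

/-- the generators on the twenty-one lines -/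
def lineT : List (List (Fin 21)) :=
  [[0, 4, 3, 2, 1, 8, 7, 6, 5, 14, 13, 11, 12, 10, 9, 16, 15, 18, 17, 19, 20],
   [1, 0, 4, 3, 2, 5, 11, 10, 9, 8, 7, 6, 14, 13, 12, 18, 16, 20, 15, 19, 17],
   [0, 3, 4, 1, 2, 6, 5, 8, 7, 15, 18, 11, 12, 17, 16, 9, 14, 13, 10, 19, 20],
   [0, 3, 4, 1, 2, 7, 8, 5, 6, 14, 10, 12, 11, 13, 9, 16, 15, 17, 18, 20, 19],
   [0, 5, 7, 6, 8, 1, 3, 2, 4, 10, 9, 11, 12, 14, 13, 18, 17, 16, 15, 19, 20]]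

/-- the centraliser of the first generator -/
def uW : List (List ℕ) :=
  [[],
   [0],
   [2],
   [3],
   [4],
   [0, 2],
   [0, 3],
   [0, 4],
   [2, 3],
   [2, 4],
   [3, 4],
   [4, 3],
   [0, 2, 3],
   [0, 2, 4],
   [2, 3, 4],
   [2, 4, 3],
   [1, 2, 3, 1, 0, 1, 2, 3, 1],
   [1, 2, 4, 1, 0, 1, 2, 4, 1],
   [0, 1, 2, 3, 1, 0, 1, 2, 3, 1],
   [0, 1, 2, 4, 1, 0, 1, 2, 4, 1],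
   [1, 2, 1, 3, 1, 0, 1, 2, 3, 1],
   [1, 2, 1, 4, 1, 0, 1, 2, 4, 1],
   [1, 2, 3, 1, 0, 1, 2, 1, 3, 1],
   [1, 2, 3, 1, 0, 1, 2, 3, 1, 4],
   [1, 2, 4, 1, 0, 1, 2, 1, 4, 1],
   [1, 2, 4, 1, 0, 1, 2, 4, 1, 3],
   [3, 1, 2, 4, 1, 0, 1, 2, 4, 1],
   [4, 1, 2, 3, 1, 0, 1, 2, 3, 1],
   [0, 1, 2, 1, 3, 1, 0, 1, 2, 3, 1],
   [0, 1, 2, 1, 4, 1, 0, 1, 2, 4, 1],
   [0, 1, 2, 3, 1, 0, 1, 2, 1, 3, 1],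
   [0, 1, 2, 3, 1, 0, 1, 2, 3, 1, 4],
   [0, 1, 2, 4, 1, 0, 1, 2, 1, 4, 1],
   [0, 1, 2, 4, 1, 0, 1, 2, 4, 1, 3],
   [0, 3, 1, 2, 4, 1, 0, 1, 2, 4, 1],
   [0, 4, 1, 2, 3, 1, 0, 1, 2, 3, 1],
   [1, 2, 1, 3, 1, 0, 1, 2, 1, 3, 1],
   [1, 2, 1, 4, 1, 0, 1, 2, 1, 4, 1],
   [1, 2, 3, 1, 0, 1, 2, 1, 3, 1, 4],
   [1, 2, 3, 1, 0, 1, 2, 3, 1, 4, 3],
   [1, 2, 4, 1, 0, 1, 2, 1, 4, 1, 3],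
   [1, 2, 4, 1, 0, 1, 2, 4, 1, 3, 4],
   [3, 1, 2, 4, 1, 0, 1, 2, 1, 4, 1],
   [3, 4, 1, 2, 3, 1, 0, 1, 2, 3, 1],
   [4, 1, 2, 3, 1, 0, 1, 2, 1, 3, 1],
   [4, 3, 1, 2, 4, 1, 0, 1, 2, 4, 1],
   [0, 1, 2, 1, 3, 1, 0, 1, 2, 1, 3, 1],
   [0, 1, 2, 1, 4, 1, 0, 1, 2, 1, 4, 1],
   [1, 0, 2, 3, 1, 4, 3, 1, 2, 4, 3, 1],
   [1, 0, 2, 4, 1, 3, 4, 1, 2, 3, 4, 1],
   [0, 1, 0, 2, 3, 1, 4, 3, 1, 2, 4, 3, 1],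
   [0, 1, 0, 2, 4, 1, 3, 4, 1, 2, 3, 4, 1],
   [1, 0, 2, 3, 1, 4, 3, 1, 2, 4, 1, 3, 1],
   [1, 0, 2, 3, 1, 4, 3, 1, 2, 4, 3, 1, 4],
   [1, 0, 2, 4, 1, 3, 4, 1, 2, 3, 1, 4, 1],
   [1, 0, 2, 4, 1, 3, 4, 1, 2, 3, 4, 1, 3],
   [1, 3, 1, 0, 2, 1, 4, 3, 1, 2, 4, 3, 1],
   [1, 3, 1, 2, 4, 1, 3, 4, 1, 0, 2, 3, 1],
   [1, 4, 1, 0, 2, 1, 3, 4, 1, 2, 3, 4, 1],
   [1, 4, 1, 2, 3, 1, 4, 3, 1, 0, 2, 4, 1],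
   [1, 0, 1, 0, 2, 1, 3, 4, 1, 0, 2, 1, 0, 1],
   [1, 0, 1, 0, 2, 1, 4, 3, 1, 0, 2, 1, 0, 1],
   [1, 0, 2, 3, 1, 4, 3, 1, 2, 4, 1, 3, 1, 4],
   [1, 0, 2, 4, 1, 3, 4, 1, 2, 3, 1, 4, 1, 3]]

/-- the three choices for the last three generators -/
def tripW : List (List ℕ × List ℕ × List ℕ) :=
  [([4], [3], [2]),
   ([0, 1, 2, 4, 1, 0, 1, 2, 1, 4, 1], [0, 1, 2, 1, 3, 1, 0, 1, 2, 3, 1], [2]),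
   ([0, 1, 2, 3, 1, 0, 1, 2, 1, 3, 1], [0, 1, 2, 1, 4, 1, 0, 1, 2, 4, 1], [2])]

/-- the dihedral groups of order eight, in the letters a, f, g -/
def eightW : List (List (List ℕ)) :=
  [[[], [0], [1], [2], [0, 1], [0, 2], [1, 2], [2, 1]],
   [[], [0], [1], [2], [0, 1], [0, 2], [1, 2], [2, 1]],
   [[], [0], [1], [2], [0, 1], [0, 2], [1, 2], [2, 1]]]

/-- the elements squaring to the first generator -/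
def sqW : List (ℕ × (List (List ℕ) ⊕ (ℕ × List ℕ × List ℕ))) :=
  [(10, Sum.inr (0, [1, 0, 1, 2, 1, 0, 1, 2, 1, 0, 2, 1], [1, 0, 2, 1, 2, 1, 0, 1, 2, 1, 0, 1])),
   (11, Sum.inr (0, [1, 0, 2, 1, 2, 1, 0, 1, 2, 1, 0, 1], [1, 0, 1, 2, 1, 0, 1, 2, 1, 0, 2, 1])),
   (14, Sum.inl [[], [0], [2], [0, 2], [1, 0, 2, 1, 2, 1, 0, 1, 0, 2, 1, 2, 1], [1, 2, 1, 0, 2, 1, 0, 1, 2, 1, 0, 2, 1], [0, 1, 0, 2, 1, 2, 1, 0, 1, 0, 2, 1, 2, 1], [0, 1, 2, 1, 0, 2, 1, 0, 1, 2, 1, 0, 2, 1], [1, 0, 2, 1, 2, 1, 0, 1, 0, 2, 1, 2, 1, 2]]),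
   (15, Sum.inl [[], [0], [2], [0, 2], [1, 0, 2, 1, 2, 1, 0, 1, 0, 2, 1, 2, 1], [1, 2, 1, 0, 2, 1, 0, 1, 2, 1, 0, 2, 1], [0, 1, 0, 2, 1, 2, 1, 0, 1, 0, 2, 1, 2, 1], [0, 1, 2, 1, 0, 2, 1, 0, 1, 2, 1, 0, 2, 1], [1, 0, 2, 1, 2, 1, 0, 1, 0, 2, 1, 2, 1, 2]]),
   (52, Sum.inl [[], [0], [2], [0, 2], [1, 0, 2, 1, 2, 1, 0, 1, 0, 2, 1, 2, 1], [1, 2, 1, 0, 2, 1, 0, 1, 2, 1, 0, 2, 1], [0, 1, 0, 2, 1, 2, 1, 0, 1, 0, 2, 1, 2, 1], [0, 1, 2, 1, 0, 2, 1, 0, 1, 2, 1, 0, 2, 1], [1, 0, 2, 1, 2, 1, 0, 1, 0, 2, 1, 2, 1, 2]]),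
   (53, Sum.inr (1, [1, 0, 1, 2, 1, 0, 1, 2, 1, 0, 2, 1], [1, 0, 2, 1, 2, 1, 0, 1, 2, 1, 0, 1])),
   (54, Sum.inl [[], [0], [2], [0, 2], [1, 0, 2, 1, 2, 1, 0, 1, 0, 2, 1, 2, 1], [1, 2, 1, 0, 2, 1, 0, 1, 2, 1, 0, 2, 1], [0, 1, 0, 2, 1, 2, 1, 0, 1, 0, 2, 1, 2, 1], [0, 1, 2, 1, 0, 2, 1, 0, 1, 2, 1, 0, 2, 1], [1, 0, 2, 1, 2, 1, 0, 1, 0, 2, 1, 2, 1, 2]]),
   (55, Sum.inr (2, [1, 0, 1, 2, 1, 0, 1, 2, 1, 0, 2, 1], [1, 0, 2, 1, 2, 1, 0, 1, 2, 1, 0, 1])),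
   (56, Sum.inr (2, [1, 0, 2, 1, 2, 1, 0, 1, 2, 1, 0, 1], [1, 0, 1, 2, 1, 0, 1, 2, 1, 0, 2, 1])),
   (57, Sum.inl [[], [0], [2], [0, 2], [1, 0, 2, 1, 2, 1, 0, 1, 0, 2, 1, 2, 1], [1, 2, 1, 0, 2, 1, 0, 1, 2, 1, 0, 2, 1], [0, 1, 0, 2, 1, 2, 1, 0, 1, 0, 2, 1, 2, 1], [0, 1, 2, 1, 0, 2, 1, 0, 1, 2, 1, 0, 2, 1], [1, 0, 2, 1, 2, 1, 0, 1, 0, 2, 1, 2, 1, 2]]),
   (58, Sum.inr (1, [1, 0, 2, 1, 2, 1, 0, 1, 2, 1, 0, 1], [1, 0, 1, 2, 1, 0, 1, 2, 1, 0, 2, 1])),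
   (59, Sum.inl [[], [0], [2], [0, 2], [1, 0, 2, 1, 2, 1, 0, 1, 0, 2, 1, 2, 1], [1, 2, 1, 0, 2, 1, 0, 1, 2, 1, 0, 2, 1], [0, 1, 0, 2, 1, 2, 1, 0, 1, 0, 2, 1, 2, 1], [0, 1, 2, 1, 0, 2, 1, 0, 1, 2, 1, 0, 2, 1], [1, 0, 2, 1, 2, 1, 0, 1, 0, 2, 1, 2, 1, 2]])]

/-- transversals along three points not on a line -/
def repW : List (Fin 21 × List (List ℕ)) :=
  [(0, [[], [4], [1, 4], [0, 3, 1, 4], [3, 1, 4], [0, 1, 4], [1, 2, 3, 1, 4], [4, 1, 2, 3, 1, 4], [1, 3, 4, 1, 0, 2, 1, 4], [3, 4, 1, 0, 2, 1, 4], [0, 1, 0, 2, 1, 4], [2, 3, 1, 4], [1, 0, 2, 3, 1, 4], [0, 2, 1, 4], [3, 1, 0, 2, 1, 4], [0, 3, 1, 0, 2, 1, 4], [2, 1, 4], [4, 1, 0, 2, 1, 4], [0, 2, 3, 1, 4], [1, 0, 2, 1, 4], [1, 3, 1, 0, 2, 1, 4]]),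
   (1, [[], [1], [0, 3, 1], [3, 1], [0, 1], [1, 2, 3, 1], [1, 0, 1, 0, 2, 1], [1, 0, 1, 3, 1, 0, 2, 1], [0, 1, 3, 1, 0, 2, 1], [0, 1, 0, 2, 1], [2, 3, 1], [1, 0, 2, 3, 1], [0, 2, 1], [3, 1, 0, 2, 1], [0, 3, 1, 0, 2, 1], [2, 1], [0, 1, 0, 2, 3, 1], [0, 2, 3, 1], [1, 0, 2, 1], [1, 3, 1, 0, 2, 1]]),
   (2, [[], [0, 3], [3], [0], [2, 1, 0, 3, 1, 0, 1, 2], [1, 0, 3, 1, 0, 1, 0, 2], [2, 3], [0, 1, 0, 1, 0, 3, 1, 2], [0, 2], [0, 1, 0, 3, 1, 0, 1, 2], [1, 0, 3, 1, 0, 1, 2], [2], [1, 0, 1, 0, 3, 1, 2], [0, 2, 3], [1, 0, 3, 1, 0, 1, 2, 3], [1, 0, 1, 0, 3, 1, 0, 2]])]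

end Cfsg.Agent.Spor.SuzAmal
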